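import Cfsg.Agent.H301.PQ.FiTwentyFour
import Cfsg.Agent.H845.T13
import Cfsg.Agent.H739.PQ.Fix

/-!
# S4612: the character of degree 249458 of `Fi₂₄'` is in the principal 13-block (helper301)
-/

set_option autoImplicit false
set_option maxRecDepth 100000

open Cfsg Cfsg.Agent

namespace Cfsg.Agent.H301.PQ.FiThirteen

open Cfsg.Agent.H845 Cfsg.Agent.H845.T13Data Cfsg.Agent.H845.T13Concl
open Cfsg.Agent.Fischer.Fi24Spider (word_append word_cons word_nil)
open Cfsg.Agent.KFacts.FiTF.Pts (word_reverse)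
open Cfsg.Agent.Fischer.Fi24Rep Cfsg.Agent.Fischer.Fi24RepDef
open Cfsg.Spor (Fi24 Fi24')
open Cfsg.Spor.Fi24 (Gen)
open Subgroup

universe v

/-- a word normalizing `⟨x⟩` -/
def wW : List Gen := wd ++ wt ++ wd ++ wc ++ wa ++ wt ++ wS

theorem w6 : E (wW ++ wx ++ wW.reverse) (wx ++ wx ++ wx ++ wx ++ wx ++ wx) = true := by decide +kernel

theorem conj_x : word wW * T13.x * (word wW)⁻¹ = T13.x ^ 6 := by
  have h := T13.of_E w6
  simp only [word_append, word_reverse] at h
  rw [T13.x, h]
  simp only [pow_succ, pow_zero, one_mul]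

section

variable {G : Type v} [Group G] {D : Set G} {l k u v x s : G} (h : Facts G D l k u v x s)

include h

/-- elements preserving the triples act on `⟨x⟩` with an order dividing 6 -/
theorem not_six [Finite G] {n : G} (hn : n ∈ normalizer ((zpowers x : Subgroup G) : Set G))
    (h1 : Tri l k (n * l * n⁻¹)) (h6 : n * x * n⁻¹ = x ^ 6) : False := by
  have h2 := mem_N1 h hn h1
  have hnorm : closure ({l, u, v, k} : Set G) ≤ centralizer ({x} : Set G) := by
    rw [closure_le]
    rintro y hy
    rw [SetLike.mem_coe, mem_centralizer_singleton_iff]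
    rcases hy with rfl | rfl | rfl | rfl
    exacts [h.xl.symm, h.xu.symm, h.xv.symm, h.xk.symm]
  have hcomm : closure ({l, u, v, k} : Set G) ≤ centralizer ((centralizer ({l, k, u, v} : Set G) : Subgroup G) : Set G) := by
    rw [closure_le]
    rintro y hy
    rw [SetLike.mem_coe, mem_centralizer_iff]
    intro c hc
    obtain ⟨m1, m2, m3, m4⟩ := mem4.1 hc
    rcases hy with rfl | rfl | rfl | rfl
    exacts [m1, m3, m4, m2]
  -- write `n = κ t`
  obtain ⟨κ, hκ, t, ht, rfl⟩ : ∃ κ ∈ centralizer ({l, k, u, v} : Set G) ⊓ normalizer ((zpowers x : Subgroup G) : Set G),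
      ∃ t ∈ closure ({l, u, v, k} : Set G), κ * t = n := by
    have h3 : n ∈ closure (((centralizer ({l, k, u, v} : Set G) ⊓ normalizer ((zpowers x : Subgroup G) : Set G) : Subgroup G) : Set G) ∪
        (closure ({l, u, v, k} : Set G) : Set G)) := by
      rwa [Subgroup.closure_union, Subgroup.closure_eq, Subgroup.closure_eq]
    clear hn h1 h6 h2
    induction h3 using closure_induction with
    | mem y hy =>
      rcases hy with hy | hy
      · exact ⟨y, hy, 1, OneMemClass.one_mem _, mul_one _⟩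
      · exact ⟨1, OneMemClass.one_mem _, y, hy, one_mul _⟩
    | one => exact ⟨1, OneMemClass.one_mem _, 1, OneMemClass.one_mem _, one_mul _⟩
    | mul y z _ _ hy hz =>
      obtain ⟨a, ha, b, hb, rfl⟩ := hy
      obtain ⟨c, hc, d, hd, rfl⟩ := hz
      refine ⟨a * c, mul_mem ha hc, b * d, mul_mem hb hd, ?_⟩
      have h4 := mem_centralizer_iff.1 (hcomm hb) c hc.1
      calc a * c * (b * d) = a * (c * b) * d := by group
        _ = a * (b * c) * d := by rw [h4]
        _ = a * b * (c * d) := by group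
    | inv y _ hy =>
      obtain ⟨a, ha, b, hb, rfl⟩ := hy
      refine ⟨a⁻¹, inv_mem ha, b⁻¹, inv_mem hb, ?_⟩
      have h4 := mem_centralizer_iff.1 (hcomm hb) a ha.1
      rw [← mul_inv_rev, ← h4]
  have h3 : t * x = x * t := mem_centralizer_singleton_iff.1 (hnorm ht)
  have h4 : κ * x * κ⁻¹ = x ^ 6 := by
    rw [← h6]
    calc κ * x * κ⁻¹ = κ * (x * t) * t⁻¹ * κ⁻¹ := by group
      _ = κ * (t * x) * t⁻¹ * κ⁻¹ := by rw [h3]
      _ = κ * t * x * (κ * t)⁻¹ := by group
  have h5 : κ ^ 78 = 1 := by
    have h7 : (⟨κ, hκ⟩ : ↥(centralizer ({l, k, u, v} : Set G) ⊓ normalizer ((zpowers x : Subgroup G) : Set G))) ^ 78 = 1 := by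
      rw [← card_NK h]
      exact pow_card_eq_one'
    exact congrArg Subtype.val h7
  have h7 : ∀ m : ℕ, κ ^ m * x * (κ ^ m)⁻¹ = x ^ 6 ^ m := by
    intro m
    induction m with
    | zero => simp
    | succ m ih =>
      have : κ ^ (m + 1) * x * (κ ^ (m + 1))⁻¹ = κ ^ m * (κ * x * κ⁻¹) * (κ ^ m)⁻¹ := by
        rw [pow_succ]; group
      rw [this, h4, ← conj_pow, ih, ← pow_mul, pow_succ]
  have h8 := h7 78
  rw [h5, one_mul, inv_one, mul_one] at h8
  have h9 : x ^ 6 ^ 78 = x ^ 12 := by
    have h10 : (6 : ℕ) ^ 78 = 13 * (6 ^ 78 / 13) + 12 := by norm_num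
    rw [h10, pow_add, pow_mul, h.x13, one_pow, one_mul]
  rw [h9] at h8
  have h10 : x ^ 11 = 1 := by
    have : x * x ^ 11 = x * 1 := by rw [← pow_succ', mul_one]; exact h8.symm
    exact mul_left_cancel this
  have h11 : x ^ (13 - 11) = 1 := by
    have : x ^ 13 = x ^ 11 * x ^ 2 := by rw [← pow_add]
    rw [h.x13, h10, one_mul] at this
    exact this.symm
  apply h.x1
  calc x = x ^ 11 * (x ^ 2)⁻¹ ^ 5 := by group
    _ = 1 := by rw [h10, h11]; group

/-- **no element of `C(x)` interchanges the triples** -/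
theorem not_swap [Finite G] {w : G} (hw : w * x * w⁻¹ = x ^ 6) {g : G} (hg : g * x = x * g) : g * l * g⁻¹ ≠ u := by
  intro hgl
  have hxn : ∀ y : G, (∃ j : ℕ, j.Coprime 13 ∧ y * x * y⁻¹ = x ^ j) → y ∈ normalizer ((zpowers x : Subgroup G) : Set G) := by
    rintro y ⟨j, hj, hy⟩
    have h7 : (zpowers x).map (MulAut.conj y).toMonoidHom ≤ zpowers x := by
      rw [MonoidHom.map_zpowers, zpowers_le]
      show y * x * y⁻¹ ∈ _
      rw [hy]
      exact npow_mem_zpowers _ _
    rw [mem_normalizer_iff_map_conj_eq]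
    apply eq_of_le_of_card_ge h7
    rw [card_map_of_injective (MulAut.conj _).injective]
  have hwN := hxn w ⟨6, by norm_num, hw⟩
  have hgN := hxn g ⟨1, by norm_num, by rw [hg, pow_one]; group⟩
  rcases six h hwN h.hl h.xl.symm with h1 | h1
  · exact not_six h hwN h1 hw
  · -- `g⁻¹ w` preserves the triples
    have h2 : g⁻¹ * w ∈ normalizer ((zpowers x : Subgroup G) : Set G) := mul_mem (inv_mem hgN) hwN
    refine not_six h h2 ?_ ?_
    · rcases six h h2 h.hl h.xl.symm with h3 | h3
      · exact h3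
      · exfalso
        -- `p = w l w⁻¹` is in the second triple, so is `g⁻¹ p g`; and `g⁻¹ u g = l`
        set p := w * l * w⁻¹ with hp
        have h4 : g⁻¹ * w * l * (g⁻¹ * w)⁻¹ = g⁻¹ * p * g := by rw [hp]; group
        rw [h4] at h3
        -- `l = g⁻¹ u g` commutes with `g⁻¹ p g`
        have h5 : l = g⁻¹ * u * g := by rw [← hgl]; group
        have h6 := tri_comm h (Or.inl rfl) h3
        have h7 : u * p = p * u := by
          have : g⁻¹ * (u * p) * g = g⁻¹ * (p * u) * g := by
            calc g⁻¹ * (u * p) * g = (g⁻¹ * u * g) * (g⁻¹ * p * g) := by group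
              _ = (g⁻¹ * p * g) * (g⁻¹ * u * g) := by rw [← h5]; exact h6
              _ = g⁻¹ * (p * u) * g := by group
          exact mul_left_cancel (mul_right_cancel this)
        by_cases h8 : u = p
        · rw [← h8, ← h5] at h3
          exact tri_disj h (Or.inl rfl) h3
        · exact nc_of_ne h.uu h.vv h.uv h.uvn (Or.inl rfl) h1 h8 h7
    · calc g⁻¹ * w * x * (g⁻¹ * w)⁻¹ = g⁻¹ * (w * x * w⁻¹) * g := by group
        _ = g⁻¹ * x ^ 6 * g := by rw [hw]
        _ = g⁻¹ * (x ^ 6 * g) := by group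
        _ = g⁻¹ * (g * x ^ 6) := by rw [((show Commute g x from hg).pow_right 6).eq]
        _ = x ^ 6 := by group

end

open Cfsg.Agent.H317.PQ Cfsg.Agent.Characters.Core Cfsg.Agent.Blocks.Basic Cfsg.Agent.Blocks.Local
open Cfsg.Agent.H329.PQ Cfsg.Agent.H766.PQ Cfsg.Agent.H642.PQ Cfsg.Agent.H690.Spor.RankThree
open Cfsg.Agent.H301.PQ Cfsg.Agent.H358.A3 Cfsg.Agent.H101.PQ Cfsg.Agent.Fischer.Abstract
open Cfsg.Agent.R08.FiTwentyFour
open Cfsg.Agent.H301.PQ.FiTwentyFour

/-- **The character of degree 249458 of `Fi₂₄'` is in the principal 13-block.** -/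
theorem mem_13 : ∃ b : IrrCharacter Fi24', charDegree (b : Fi24' → ℂ) = 249458 ∧ b ∈ B0 13 Fi24' ∧
    b ∉ B0 5 Fi24' ∧ b ∉ B0 11 Fi24' ∧ b ∉ B0 17 Fi24' ∧ b ∉ B0 23 Fi24' ∧ b ∉ B0 29 Fi24' := by
  have hfin24 : Finite Fi24 := finite_Fi24
  have hfin := finite_fi24'
  have hG := card
  obtain ⟨R, hR, hX, h3⟩ := exists_R
  have hXf : Finite X := Nat.finite_of_card_ne_zero (by rw [hX]; norm_num)
  have htr : MulAction.IsPretransitive (commutator Fi24) X := h3.trans
  obtain ⟨b, a, hb, ha, hfix, -, hz, hu⟩ := fischer_vals R (fun γ : commutator Fi24 => (γ : Fi24)) (fun _ _ => rfl) h3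
    80 352 249458 57477 chkV_true (by norm_num) (by norm_num)
  have hmf : MF (commutator Fi24) X ![one _, b, a] := mf_of_rank3 (by rw [hb]; norm_num)
    (by rw [ha]; norm_num) (by rw [ha, hb]; norm_num) hfix
  have hL : ∀ x, R.t x ∈ L := fun x => by rw [← hR]; exact ⟨x, rfl⟩
  obtain ⟨z, hz0⟩ : ∃ z : commutator Fi24, (z : Fi24) = R.t R.x0 * R.t R.c :=
    ⟨⟨_, even (hL _) (hL _)⟩, rfl⟩
  obtain ⟨bz, az⟩ := hz z R.x0 R.c R.c_ne_x0.symm R.com_x0_c hz0
  have az' : (a : commutator Fi24 → ℂ) z = ((1157 : ℤ) : ℂ) := by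
    push_cast at az ⊢
    linear_combination (1 / 432 : ℂ) * az
  have bz' : (b : commutator Fi24 → ℂ) z = ((2354 : ℤ) : ℂ) := by
    push_cast at bz ⊢
    linear_combination (1 / 432 : ℂ) * bz
  have iz : (Subgroup.centralizer ({z} : Set (commutator Fi24))).index ∣ 306936 * 31671 := by
    rw [← hX]
    exact index_dvd_com R (commutator Fi24).subtype (Subgroup.subtype_injective _) (fun _ _ => rfl) h3 R.c_ne_x0.symm
      R.com_x0_c hz0
  have a13 : a ∉ B0 13 Fi24' := not_mem_val (by norm_num) z 57477 _ 1157 ha az' iz (by norm_num) (by norm_num)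
  refine ⟨b, hb, ?_, ?_, ?_, ?_, ?_, ?_⟩
  · have hF := T13.facts
    -- the element of order 13 is in the derived subgroup
    obtain ⟨x, hx⟩ : ∃ x : commutator Fi24, (x : Fi24) = T13.x := by
      refine ⟨⟨T13.x, ?_⟩, rfl⟩
      have h1 : T13.x ^ 2 ∈ commutator Fi24 := by
        have := Subgroup.pow_index_mem (commutator Fi24) T13.x
        rwa [index_commutator] at this
      have h2 : T13.x = (T13.x ^ 2) ^ 7 := by
        rw [← pow_mul, show 2 * 7 = 13 + 1 by norm_num, pow_succ, hF.x13, one_mul]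
      rw [h2]
      exact pow_mem h1 7
    obtain ⟨pl, hpl⟩ : ∃ p, R.t p = gen .l := by
      have := hF.hl
      rwa [← hR] at this
    obtain ⟨pu, hpu⟩ : ∃ p, R.t p = T13.u := by
      have := hF.hu
      rwa [← hR] at this
    have hfx : ∀ p, R.t p * T13.x = T13.x * R.t p → x • p = p := by
      intro p hp
      apply R.t_injective
      have h1 : R.t ((x : Fi24) • p) = R.t p := by
        rw [R.map_smul, hx, ← hp]
        group
      exact h1
    by_contra hb13
    obtain ⟨m, hm, hge⟩ := Cfsg.Agent.H739.PQ.fix_ge (p := 13) (by norm_num) hmf ({0} : Finset (Fin 3)) (by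
        intro i
        fin_cases i
        · simpa using H301.PQ.one_mem (by norm_num)
        · simpa using hb13
        · simpa using a13) (u := x) ⟨1, by
          rw [pow_one]
          have : Fact (Nat.Prime 13) := ⟨by norm_num⟩
          apply orderOf_eq_prime
          · apply Subtype.ext
            show (x : Fi24) ^ 13 = 1
            rw [hx, hF.x13]
          · intro h1
            apply hF.x1
            rw [← hx, h1]
            rfl⟩ (n := 2) ![pl, pu] (by
          intro i
          fin_cases i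
          · exact hfx pl (by rw [hpl]; exact hF.xl.symm)
          · exact hfx pu (by rw [hpu]; exact hF.xu.symm)) (by
          have key : ∀ c ∈ Subgroup.centralizer ({x} : Set (commutator Fi24)), c • pl ≠ pu := by
            intro c hc h1
            have h2 : (c : Fi24) * T13.x = T13.x * c := by
              have := congrArg Subtype.val (Subgroup.mem_centralizer_singleton_iff.1 hc)
              rw [← hx]
              exact this
            apply not_swap hF conj_x h2
            have h4 := R.map_smul (c : Fi24) pl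
            rw [hpl] at h4
            rw [← h4, ← hpu]
            exact congrArg R.t h1
          intro i j hij c hc
          fin_cases i <;> fin_cases j
          · exact absurd rfl hij
          · exact key c hc
          · intro h1
            apply key c⁻¹ (inv_mem hc)
            rw [inv_smul_eq_iff]
            exact h1.symm
          · exact absurd rfl hij)
    rw [Finset.sum_singleton] at hm
    have h1 : (1 : ℂ) = m := hm
    have h2 : m = 1 := by exact_mod_cast h1.symm
    omega
  · exact not_mem_val (by norm_num) z 249458 _ 2354 hb bz' iz (by norm_num) (by norm_num)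
  · exact not_mem_dz (by norm_num) (by rw [hG]; norm_num) hb 1 (by rw [hG]; norm_num) (by norm_num)
  · exact not_mem_dz (by norm_num) (by rw [hG]; norm_num) hb 1 (by rw [hG]; norm_num) (by norm_num)
  · exact not_mem_dz (by norm_num) (by rw [hG]; norm_num) hb 1 (by rw [hG]; norm_num) (by norm_num)
  · exact not_mem_dz (by norm_num) (by rw [hG]; norm_num) hb 1 (by rw [hG]; norm_num) (by norm_num)

end Cfsg.Agent.H301.PQ.FiThirteen
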