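import Cfsg.Agent.H301.PQ.Tools
import Cfsg.Agent.H301.PQ.Fischer
import Cfsg.Agent.H301.PQ.FiTwentyTwo
import Cfsg.Agent.H153.Dl.RowFi24

/-!
# S4612: the pairs of `Fi₂₄'` (helper301)

* the rank 3 characters of degrees 57477, 249458 on the transpositions of `Fi₂₄`, their values at the products of two
  transpositions.
-/

set_option autoImplicit false
set_option linter.unusedSectionVars false

open Cfsg Cfsg.Agent

namespace Cfsg.Agent.H301.PQ.FiTwentyFour

open Cfsg.Agent.H317.PQ Cfsg.Agent.Characters.Core Cfsg.Agent.Blocks.Basic Cfsg.Agent.Blocks.Local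
open Cfsg.Agent.H329.PQ Cfsg.Agent.H766.PQ Cfsg.Agent.H642.PQ Cfsg.Agent.H690.Spor.RankThree
open Cfsg.Agent.H301.PQ Cfsg.Agent.H358.A3 Cfsg.Agent.H101.PQ Cfsg.Agent.Fischer.Abstract
open Cfsg.Agent.R08.FiTwentyFour
open Cfsg.Spor (Fi24 Fi24')

universe u v

abbrev X : Type := Fi24 ⧸ Cfsg.Agent.Fischer.Fi24RepOrb.H

theorem card_ncom {X : Type*} [MulAction Fi24 X] (R : Rank3 Fi24 X) (hR : Set.range R.t = L) (x : X) :
    Nat.card {y // ¬ R.Com x y} = 275264 := by
  classical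
  have hcX := Cfsg.Agent.H711.FiEven.card_X R hR
  have hfX : Finite X := Nat.finite_of_card_ne_zero (by rw [hcX]; norm_num)
  have h1 : (Cfsg.Agent.LThreeM.SrgFix.nb R x).ncard = 31671 := by
    rw [Cfsg.Agent.LThreeM.SrgFix.ncard_nb, Cfsg.Agent.H711.FiEven.nb_card R hR]
  have h2 : ({y : X | ¬ R.Com x y} : Set X)ᶜ = insert x (Cfsg.Agent.LThreeM.SrgFix.nb R x) := by
    ext y
    simp only [Set.mem_compl_iff, Set.mem_insert_iff]
    constructor
    · intro h3
      have h4 : R.Com x y := by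
        by_contra h5
        exact h3 h5
      by_cases h5 : y = x
      · exact Or.inl h5
      · exact Or.inr ⟨Ne.symm h5, h4⟩
    · rintro (rfl | ⟨-, h4⟩)
      · exact fun h5 => h5 (R.com_self _)
      · exact fun h5 => h5 h4
  have h3 := Set.ncard_add_ncard_compl {y : X | ¬ R.Com x y}
  rw [h2, Set.ncard_insert_of_notMem (fun h => h.1 rfl), h1, hcX] at h3
  have h4 : Nat.card {y // ¬ R.Com x y} = ({y : X | ¬ R.Com x y} : Set X).ncard := by
    rw [← Nat.card_coe_set_eq]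
    rfl
  omega

/-- the rank 3 structure -/
theorem exists_R : ∃ R : Rank3 Fi24 X, Set.range R.t = L ∧ Nat.card X = 306936 ∧
    R3 (commutator Fi24) X (fun x y => ¬ R.Com x y) 275264 31671 := by
  have hfin : Finite Fi24 := finite_Fi24
  obtain ⟨R, -, -, hR⟩ := facts.exists_rank3
  have hcX := Cfsg.Agent.H711.FiEven.card_X R hR
  refine ⟨R, hR, hcX, ?_⟩
  exact r3_sub R _ (Cfsg.Agent.H187.FiTwoZ.same_of R _ index_commutator (fun x => odd (by rw [← hR]; exact ⟨x, rfl⟩))
    (Cfsg.Agent.H187.FiTwoZ.fi24_common R hR)) (card_ncom R hR) (by norm_num) (by norm_num) hcX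

theorem chkV_true : (chkV 275264 31671 fun a b => (a == 80) && (b == 352)) = true := by decide +kernel

theorem card : Nat.card Fi24' = 1255205709190661721292800 := card_commutator

theorem finite_fi24' : Finite Fi24' := Nat.finite_of_card_ne_zero (by rw [card]; norm_num)

/-- **The principal blocks containing the characters of degrees 57477 and 249458.** -/
theorem blocks : ∃ a b : IrrCharacter Fi24', charDegree (a : Fi24' → ℂ) = 57477 ∧
    charDegree (b : Fi24' → ℂ) = 249458 ∧ a ∈ B0 2 Fi24' ∧ b ∈ B0 2 Fi24' ∧ a ∈ B0 3 Fi24' ∧ b ∈ B0 3 Fi24' ∧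
    a ∉ B0 5 Fi24' ∧ b ∉ B0 5 Fi24' ∧ a ∉ B0 7 Fi24' ∧ b ∈ B0 7 Fi24' ∧ b ∉ B0 11 Fi24' ∧ a ∉ B0 13 Fi24' ∧
    a ∉ B0 17 Fi24' ∧ b ∉ B0 17 Fi24' ∧ a ∉ B0 23 Fi24' ∧ b ∉ B0 23 Fi24' ∧ a ∈ B0 29 Fi24' ∧ b ∉ B0 29 Fi24' := by
  have hfin24 : Finite Fi24 := finite_Fi24
  have hfin := finite_fi24'
  have hG := card
  obtain ⟨R, hR, hX, h3⟩ := exists_R
  have hXf : Finite X := Nat.finite_of_card_ne_zero (by rw [hX]; norm_num)
  have htr : MulAction.IsPretransitive (commutator Fi24) X := h3.trans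
  obtain ⟨b, a, hb, ha, hfix, -, hz, hu⟩ := fischer_vals R (fun γ : commutator Fi24 => (γ : Fi24)) (fun _ _ => rfl) h3
    80 352 249458 57477 chkV_true (by norm_num) (by norm_num)
  have hmf : MF (commutator Fi24) X ![one _, b, a] := mf_of_rank3 (by rw [hb]; norm_num)
    (by rw [ha]; norm_num) (by rw [ha, hb]; norm_num) hfix
  have hL : ∀ x, R.t x ∈ L := fun x => by rw [← hR]; exact ⟨x, rfl⟩
  -- the elements
  obtain ⟨z, hz0⟩ : ∃ z : commutator Fi24, (z : Fi24) = R.t R.x0 * R.t R.c :=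
    ⟨⟨_, even (hL _) (hL _)⟩, rfl⟩
  obtain ⟨u, hu0⟩ : ∃ u : commutator Fi24, (u : Fi24) = R.t R.x0 * R.t R.b :=
    ⟨⟨_, even (hL _) (hL _)⟩, rfl⟩
  obtain ⟨bz, az⟩ := hz z R.x0 R.c R.c_ne_x0.symm R.com_x0_c hz0
  obtain ⟨bu, au⟩ := hu u R.x0 R.b R.not_com_x0_b hu0
  have az' : (a : commutator Fi24 → ℂ) z = ((1157 : ℤ) : ℂ) := by
    push_cast at az ⊢
    linear_combination (1 / 432 : ℂ) * az
  have bz' : (b : commutator Fi24 → ℂ) z = ((2354 : ℤ) : ℂ) := by
    push_cast at bz ⊢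
    linear_combination (1 / 432 : ℂ) * bz
  have au' : (a : commutator Fi24 → ℂ) u = ((534 : ℤ) : ℂ) := by
    push_cast at au ⊢
    linear_combination (1 / 432 : ℂ) * au
  have bu' : (b : commutator Fi24 → ℂ) u = ((2705 : ℤ) : ℂ) := by
    push_cast at bu ⊢
    linear_combination (1 / 432 : ℂ) * bu
  have iz : (Subgroup.centralizer ({z} : Set (commutator Fi24))).index ∣ 306936 * 31671 := by
    rw [← hX]
    exact index_dvd_com R (commutator Fi24).subtype (Subgroup.subtype_injective _) (fun _ _ => rfl) h3 R.c_ne_x0.symm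
      R.com_x0_c hz0
  have iu : (Subgroup.centralizer ({u} : Set (commutator Fi24))).index ∣ 306936 * 275264 := by
    rw [← hX]
    exact index_dvd_ncom R (commutator Fi24).subtype (Subgroup.subtype_injective _) (fun _ _ => rfl) h3
      R.not_com_x0_b hu0
  have b29 : b ∉ B0 29 Fi24' := not_mem_dz (by norm_num) (by rw [hG]; norm_num) hb 1 (by rw [hG]; norm_num) (by norm_num)
  refine ⟨a, b, ha, hb, ?_, ?_, ?_, ?_, ?_, ?_, ?_, ?_, ?_, ?_, ?_, ?_, ?_, ?_, ?_, b29⟩
  · exact mem_snd (by norm_num) hmf 3 hb (by rw [hX]; norm_num) (by norm_num) (by norm_num)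
  · exact mem_fst (by norm_num) hmf 3 ha (by rw [hX]; norm_num) (by norm_num) (by norm_num)
  · exact mem_snd (by norm_num) hmf 3 hb (by rw [hX]; norm_num) (by norm_num) (by norm_num)
  · exact mem_fst (by norm_num) hmf 3 ha (by rw [hX]; norm_num) (by norm_num) (by norm_num)
  · exact not_mem_val (by norm_num) u 57477 _ 534 ha au' iu (by norm_num) (by norm_num)
  · exact not_mem_val (by norm_num) z 249458 _ 2354 hb bz' iz (by norm_num) (by norm_num)
  · exact not_mem_class' (by norm_num) z 57477 _ 1157 (2 * 84564 * 56320) ha az' iz (by norm_num) (by norm_num)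
  · exact mem_fst (by norm_num) hmf 2 ha (by rw [hX]; norm_num) (by norm_num) (by norm_num)
  · exact not_mem_dz (by norm_num) (by rw [hG]; norm_num) hb 1 (by rw [hG]; norm_num) (by norm_num)
  · exact not_mem_val (by norm_num) z 57477 _ 1157 ha az' iz (by norm_num) (by norm_num)
  · exact not_mem_dz (by norm_num) (by rw [hG]; norm_num) ha 1 (by rw [hG]; norm_num) (by norm_num)
  · exact not_mem_dz (by norm_num) (by rw [hG]; norm_num) hb 1 (by rw [hG]; norm_num) (by norm_num)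
  · exact not_mem_dz (by norm_num) (by rw [hG]; norm_num) ha 1 (by rw [hG]; norm_num) (by norm_num)
  · exact not_mem_dz (by norm_num) (by rw [hG]; norm_num) hb 1 (by rw [hG]; norm_num) (by norm_num)
  · exact mem_snd_of_not (by norm_num) hmf b29 (by rw [hX]; norm_num)

end Cfsg.Agent.H301.PQ.FiTwentyFour
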