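import Cfsg.Agent.H301.PQ.Tools
import Cfsg.Agent.H301.PQ.Fischer
import Cfsg.Agent.H301.PQ.FiTwentyTwo
import Cfsg.Agent.H332.EB.Fi23
import Cfsg.Agent.H841.PB.FiTwentyThree
import Cfsg.Agent.H678.DG.FiPts
import Cfsg.Agent.H153.Cov.Fi23
import Cfsg.Agent.H990.PQ.Core
import Cfsg.Agent.H894.PQ.Tools

/-!
# S4612: the pairs of `Fi₂₃` (helper301)

* the rank 3 characters of degrees 782, 30888 on the transpositions, their values 78, 3432 at a transposition;
* the rank 3 character of degree 106743 on 137632 points;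
* the centralizer `2.Fi₂₂` of a transposition, `7 × S₅`, `13:6 × S₃`.
-/

set_option autoImplicit false
set_option linter.unusedSectionVars false

open Cfsg Cfsg.Agent

namespace Cfsg.Agent.H301.PQ.FiTwentyThree

open Cfsg.Agent.H317.PQ Cfsg.Agent.Characters.Core Cfsg.Agent.Blocks.Basic Cfsg.Agent.Blocks.Local
open Cfsg.Agent.H329.PQ Cfsg.Agent.H766.PQ Cfsg.Agent.H642.PQ Cfsg.Agent.H690.Spor.RankThree
open Cfsg.Agent.H301.PQ Cfsg.Agent.H358.A3 Cfsg.Agent.H101.PQ Cfsg.Agent.Fischer.Abstract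
open Cfsg.Spor (Fi23)

universe u v

theorem card_fi23 : Nat.card Fi23 = 4089470473293004800 := H841.PB.FiTwentyThree.fi23_card

theorem finite_fi23 : Finite Fi23 := Nat.finite_of_card_ne_zero (by rw [card_fi23]; norm_num)

theorem chkV_true : (chkV 28160 3510 fun a b => (a == 8) && (b == 352)) = true := by decide +kernel

/-- **The principal blocks containing the characters of degrees 782 and 30888.** -/
theorem blocks : ∃ a b : IrrCharacter Fi23, charDegree (a : Fi23 → ℂ) = 782 ∧
    charDegree (b : Fi23 → ℂ) = 30888 ∧ a ∈ B0 3 Fi23 ∧ b ∈ B0 3 Fi23 ∧ a ∉ B0 5 Fi23 ∧ b ∉ B0 5 Fi23 ∧ a ∉ B0 7 Fi23 ∧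
    b ∉ B0 7 Fi23 ∧ a ∈ B0 11 Fi23 ∧ b ∉ B0 11 Fi23 ∧ a ∉ B0 13 Fi23 ∧ b ∉ B0 13 Fi23 ∧ a ∉ B0 17 Fi23 ∧
    b ∈ B0 17 Fi23 ∧ a ∉ B0 23 Fi23 ∧ b ∈ B0 23 Fi23 := by
  have hfin := finite_fi23
  have hG := card_fi23
  obtain ⟨R, -, -, hR⟩ := R08.FiTwentyThree.exists_rank3
  have h0 := H332.EB.FiTh.r3 R hR
  have := h0.trans
  have hX := H332.EB.FiTh.card_X R hR
  have hfinX := H332.EB.FiTh.finite_X R hR
  obtain ⟨b, a, hb, ha, hfix, hval, -, -⟩ := fischer_vals R (id : Fi23 → Fi23) (fun _ _ => rfl) h0 8 352 30888 782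
    chkV_true (by norm_num) (by norm_num)
  obtain ⟨hbt, hat⟩ := hval (R.t R.x0) R.x0 rfl
  have hat' : (a : Fi23 → ℂ) (R.t R.x0) = ((78 : ℤ) : ℂ) := by
    push_cast at hat ⊢
    linear_combination (1 / 360 : ℂ) * hat
  have hbt' : (b : Fi23 → ℂ) (R.t R.x0) = ((3432 : ℤ) : ℂ) := by
    push_cast at hbt ⊢
    linear_combination (1 / 360 : ℂ) * hbt
  have hi : (Subgroup.centralizer ({R.t R.x0} : Set Fi23)).index = 31671 := by
    rw [R.centralizer_eq_stabilizer, MulAction.index_stabilizer_of_transitive, hX]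
  have hmf : MF Fi23 (Fi23 ⧸ Fischer.Fi23Class.K) ![one Fi23, b, a] := mf_of_rank3 (by rw [hb]; norm_num)
    (by rw [ha]; norm_num) (by rw [ha, hb]; norm_num) hfix
  have h11 : Fact (Nat.Prime 11) := ⟨by norm_num⟩
  have a17 : a ∉ B0 17 Fi23 := not_mem_dz (by norm_num) (by rw [hG]; norm_num) ha 1 (by rw [hG]; norm_num) (by norm_num)
  have a23 : a ∉ B0 23 Fi23 := not_mem_dz (by norm_num) (by rw [hG]; norm_num) ha 1 (by rw [hG]; norm_num) (by norm_num)
  refine ⟨a, b, ha, hb, ?_, ?_, ?_, ?_, ?_, ?_, ?_, ?_, ?_, ?_, a17, ?_, a23, ?_⟩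
  · exact mem_snd (by norm_num) hmf 4 hb (by rw [hX]; norm_num) (by norm_num) (by norm_num)
  · exact mem_fst (by norm_num) hmf 4 ha (by rw [hX]; norm_num) (by norm_num) (by norm_num)
  · intro h
    have h1 := val_test (by norm_num) h _ (by rw [hi]; norm_num) hat'
    rw [ha] at h1
    norm_num at h1
  · intro h
    have h1 := val_test (by norm_num) h _ (by rw [hi]; norm_num) hbt'
    rw [hb] at h1
    norm_num at h1
  · intro h
    have h1 := val_test (by norm_num) h _ (by rw [hi]; norm_num) hat'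
    rw [ha] at h1
    norm_num at h1
  · intro h
    have h1 := val_test (by norm_num) h _ (by rw [hi]; norm_num) hbt'
    rw [hb] at h1
    norm_num at h1
  · intro M hM
    refine H732.PB.mem_principalBlock_of_const hM a (c := 1) one_ne_zero (fun g hg => ?_) (by rw [hG]; norm_num)
    have h4 := hfix g
    have h5 : fx Fi23 (Fi23 ⧸ Fischer.Fi23Class.K) g = 2 := by
      rw [← H841.PB.FiTwentyThree.ncard_of_eleven hg]
      exact H841.PB.FiTwentyThree.card_fixed g
    rw [h5, H841.PB.FiTwentyThree.vanish_eleven (χ := b) (by rw [hb]; norm_num) hg] at h4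
    push_cast at h4
    linear_combination -h4
  · exact not_mem_dz (by norm_num) (by rw [hG]; norm_num) hb 1 (by rw [hG]; norm_num) (by norm_num)
  · intro h
    have h1 := val_test (by norm_num) h _ (by rw [hi]; norm_num) hat'
    rw [ha] at h1
    norm_num at h1
  · exact not_mem_dz (by norm_num) (by rw [hG]; norm_num) hb 1 (by rw [hG]; norm_num) (by norm_num)
  · exact mem_fst_of_not (by norm_num) hmf a17 (by rw [hX]; norm_num)
  · exact mem_fst_of_not (by norm_num) hmf a23 (by rw [hX]; norm_num)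

/-- the degrees on 137632 points -/
def Q (a b : ℕ) : Bool := (a == 106743) && (b == 30888) || (a == 30888) && (b == 106743)

theorem chkP1 : H968.Imc.chkP 28431 109200 Q = true := by decide +kernel
theorem chkP2 : H968.Imc.chkP 109200 28431 Q = true := by decide +kernel

/-- **The principal blocks containing the character of degree 106743.** -/
theorem blocks' : ∃ c : IrrCharacter Fi23, charDegree (c : Fi23 → ℂ) = 106743 ∧
    c ∈ B0 2 Fi23 ∧ c ∈ B0 11 Fi23 ∧ c ∉ B0 7 Fi23 ∧ c ∉ B0 13 Fi23 ∧ c ∉ B0 17 Fi23 ∧ c ∉ B0 23 Fi23 := by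
  have hfin := finite_fi23
  have hG := card_fi23
  obtain ⟨X, i, k, m, R, hR, h1, h2, h3⟩ := H678.DG.FiPts.exists_R3
  have := hR.trans
  have hX : Nat.card X = 137632 := by
    rw [hR.cardn]
    omega
  have hfinX : Finite X := Nat.finite_of_card_ne_zero (by rw [hX]; norm_num)
  obtain ⟨c, b, hc, hb, hfix⟩ : ∃ c b : IrrCharacter Fi23, charDegree (c : Fi23 → ℂ) = 106743 ∧
      charDegree (b : Fi23 → ℂ) = 30888 ∧
      ∀ x, (fx Fi23 X x : ℂ) = 1 + (c : Fi23 → ℂ) x + (b : Fi23 → ℂ) x := by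
    have key : H968.Imc.chkP k m Q = true := by
      rcases H678.DG.FiPts.subdeg h1 h2 h3 with ⟨rfl, rfl⟩ | ⟨rfl, rfl⟩
      · exact chkP1
      · exact chkP2
    obtain ⟨χ₁, χ₂, -, -, h4, h5⟩ := H968.Imc.exists_pair hR Q key
    unfold Q at h5
    rw [Bool.or_eq_true, Bool.and_eq_true, Bool.and_eq_true, beq_iff_eq, beq_iff_eq, beq_iff_eq, beq_iff_eq] at h5
    rcases h5 with ⟨h5, h6⟩ | ⟨h5, h6⟩
    · exact ⟨χ₁, χ₂, h5, h6, h4⟩
    · exact ⟨χ₂, χ₁, h6, h5, fun x => by
        have := h4 x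
        unfold fx
        rw [this]
        ring⟩
  have hmf : MF Fi23 X ![one Fi23, c, b] := mf_of_rank3 (by rw [hc]; norm_num)
    (by rw [hb]; norm_num) (by rw [hc, hb]; norm_num) hfix
  refine ⟨c, hc, ?_, ?_, ?_, ?_, ?_, ?_⟩
  · exact mem_fst (by norm_num) hmf 5 hb (by rw [hX]; norm_num) (by norm_num) (by norm_num)
  · exact mem_fst (by norm_num) hmf 1 hb (by rw [hX]; norm_num) (by norm_num) (by norm_num)
  all_goals exact not_mem_dz (by norm_num) (by rw [hG]; norm_num) hc 1 (by rw [hG]; norm_num) (by norm_num)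

/-- `2.Fi₂₂` -/
theorem not_PQ_two {q : ℕ} (hq : q = 3 ∨ q = 5 ∨ q = 7 ∨ q = 11) : ¬ PQ 2 q Fi23 := by
  intro hPQ
  have hfin := finite_fi23
  have hqp : q.Prime := by rcases hq with rfl | rfl | rfl | rfl <;> norm_num
  have hq2 : q ≠ 2 := by rcases hq with rfl | rfl | rfl | rfl <;> norm_num
  obtain ⟨R, hR0, -, -⟩ := R08.FiTwentyThree.exists_rank3
  have hd : orderOf (Fischer.Fi23Z.z0 : Fi23) = 2 := by
    rw [← hR0]
    exact R.orderOf_t R.x0
  have hK : Subgroup.centralizer ({Fischer.Fi23Z.z0} : Set Fi23) = Fischer.Fi23Class.K := by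
    ext g
    rw [Subgroup.mem_centralizer_singleton_iff, R08.FiTwentyThree.mem_K_iff]
  have h1 : PQ 2 q (Subgroup.centralizer ({Fischer.Fi23Z.z0} : Set Fi23)) :=
    PQ.centralizer Nat.prime_two hqp hq2.symm hPQ ⟨1, by rw [hd, pow_one]⟩
  rw [hK] at h1
  have hker : R08.FiTwentyThree.pi.ker ≤ Subgroup.center Fischer.Fi23Class.K := by
    intro x hx
    rw [Subgroup.mem_center_iff]
    intro g
    rcases (R08.FiTwentyThree.pi_ker x).1 hx with rfl | rfl
    · rw [mul_one, one_mul]
    · exact (R08.FiTwentyThree.central g).symm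
  exact FiTwentyTwo.not_PQ_two ⟨MulEquiv.refl _⟩ hq
    (PQ.map_central Nat.prime_two hqp hq2.symm h1 R08.FiTwentyThree.pi R08.FiTwentyThree.pi_surjective hker)

theorem not_same_7_5 : ¬ Same 7 5 Fi23 := by
  intro h
  have hfin := finite_fi23
  have h7 : Fact (Nat.Prime 7) := ⟨by norm_num⟩
  obtain ⟨x, hx⟩ := exists_prime_orderOf_dvd_card' (G := Fi23) 7 (by rw [card_fi23]; norm_num)
  have h1 := H841.PB.FiTwentyThree.card_cent_seven hx
  have h2 : Nat.card (Subgroup.zpowers x) = 7 := by rw [Nat.card_zpowers, hx]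
  refine H990.PQ.Same.core_sylow (by norm_num) (by norm_num) (by norm_num) h (Subgroup.zpowers x)
    (IsPGroup.of_card (n := 1) (by rw [h2, pow_one])) ?_ ?_
  · intro h3
    have h4 := (Subgroup.zpowers x).card_mul_index
    rw [h2, card_fi23] at h4
    have h5 : (Subgroup.zpowers x).index = 584210067613286400 := by omega
    rw [h5] at h3
    norm_num at h3
  · rw [H841.PB.FiTwentyThree.cent_zp, h1]
    norm_num

theorem not_same_7_13 : ¬ Same 7 13 Fi23 := by
  intro hS
  have hfin := finite_fi23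
  have h13 : Fact (Nat.Prime 13) := ⟨by norm_num⟩
  obtain ⟨e, he, h1⟩ := H894.PQ.exists_count (G := Fi23) (p := 7) (by norm_num) (by norm_num) (by rw [card_fi23]; norm_num)
    (by rw [card_fi23]; norm_num)
  obtain ⟨P⟩ : Nonempty (Sylow 13 Fi23) := inferInstance
  have hP : Nat.card P = 13 := by
    rw [P.card_eq_multiplicity, card_fi23, Nat.factorization_def _ (by norm_num : Nat.Prime 13),
      show (4089470473293004800 : ℕ) = 13 ^ 1 * 314574651791769600 by norm_num, padicValNat.mul (by norm_num) (by norm_num),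
      padicValNat.prime_pow, padicValNat.eq_zero_of_not_dvd (by norm_num)]
    norm_num
  obtain ⟨x, hx⟩ : ∃ x : Fi23, Subgroup.zpowers x = (P : Subgroup Fi23) := by
    have h2 : IsCyclic (P : Subgroup Fi23) := isCyclic_of_prime_card hP
    obtain ⟨x, hx⟩ := h2.exists_generator
    refine ⟨x, ?_⟩
    ext y
    constructor
    · rintro ⟨i, rfl⟩
      exact (P : Subgroup Fi23).zpow_mem x.2 i
    · intro hy
      obtain ⟨i, hi⟩ := hx ⟨y, hy⟩
      exact ⟨i, by simpa using congrArg Subtype.val hi⟩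
  have hxo : orderOf x = 13 := by
    rw [← Nat.card_zpowers, hx]
    exact hP
  have hN := H153.Cov.card_norm13 (P : Subgroup Fi23) hP
  obtain ⟨f, hf, hk⟩ := H870.IMFi23.exists_surj_elt hxo (H839.Fi23.thirteen_main (Subgroup.zpowers x) (by rw [hx]; exact hP))
  have hC := H841.PB.FiTwentyThree.card_of_surj f hf hk
  have hC' : Nat.card (Subgroup.centralizer ((P : Subgroup Fi23) : Set Fi23)) = 78 := by
    rw [← hx, H841.PB.FiTwentyThree.cent_zp, hC]
    rfl
  have he6 : (Subgroup.centralizer ((P : Subgroup Fi23) : Set Fi23)).relIndex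
      (Subgroup.normalizer ((P : Subgroup Fi23) : Set Fi23)) = 6 := by
    have hle : Subgroup.centralizer ((P : Subgroup Fi23) : Set Fi23) ≤
        Subgroup.normalizer ((P : Subgroup Fi23) : Set Fi23) := Subgroup.centralizer_le_normalizer _
    have h3 := ((Subgroup.centralizer ((P : Subgroup Fi23) : Set Fi23)).subgroupOf
      (Subgroup.normalizer ((P : Subgroup Fi23) : Set Fi23))).index_mul_card
    rw [Nat.card_congr (Subgroup.subgroupOfEquivOfLe hle).toEquiv, hN, hC'] at h3
    show ((Subgroup.centralizer ((P : Subgroup Fi23) : Set Fi23)).subgroupOf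
      (Subgroup.normalizer ((P : Subgroup Fi23) : Set Fi23))).index = 6
    omega
  have h2 := card_B0 (by norm_num) (by norm_num) P hP 6 he6
  have h3 : B0 7 Fi23 = B0 13 Fi23 := hS
  rw [← h3, h1] at h2
  have h4 : e ≤ 6 := Nat.le_of_dvd (by norm_num) he
  interval_cases e <;> revert h2 he <;> decide

theorem not_same_17_23 : ¬ Same 17 23 Fi23 := by
  have hfin := finite_fi23
  refine H894.PQ.kill_count (by norm_num) (by norm_num) (by norm_num) (by norm_num) (by rw [card_fi23]; norm_num)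
    (by rw [card_fi23]; norm_num) (by rw [card_fi23]; norm_num) (by rw [card_fi23]; norm_num) ?_
  decide

/-- all pairs but 5, 13 -/
theorem pairs {p q : ℕ} (hp : p.Prime) (hq : q.Prime) (hpq : p < q) (hpG : p ∣ Nat.card Fi23) (hqG : q ∣ Nat.card Fi23)
    (h5 : ¬ (p = 5 ∧ q = 13)) : ¬ Same p q Fi23 := by
  have hfin := finite_fi23
  obtain ⟨a, b, -, -, a3, b3, a5, b5, a7, b7, a11, b11, a13, b13, a17, b17, a23, b23⟩ := blocks
  obtain ⟨c, -, c2, c11, c7, c13, c17, c23⟩ := blocks'
  have two : ∀ q, q = 3 ∨ q = 5 ∨ q = 7 ∨ q = 11 → ¬ Same 2 q Fi23 := fun q hq hS =>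
    not_PQ_two hq (PQ.of_same (by rcases hq with rfl | rfl | rfl | rfl <;> norm_num) hS)
  rw [card_fi23] at hpG hqG
  rcases H841.PB.FiTwentyThree.prime_cases hp hpG with rfl | rfl | rfl | rfl | rfl | rfl | rfl | rfl <;>
    rcases H841.PB.FiTwentyThree.prime_cases hq hqG with rfl | rfl | rfl | rfl | rfl | rfl | rfl | rfl <;>
    first
      | (exfalso; revert hpq; decide)
      | (exfalso; exact h5 ⟨rfl, rfl⟩)
      | exact two 3 (Or.inl rfl)
      | exact two 5 (Or.inr (Or.inl rfl))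
      | exact two 7 (Or.inr (Or.inr (Or.inl rfl)))
      | exact two 11 (Or.inr (Or.inr (Or.inr rfl)))
      | exact not_same_of_mem c2 c13
      | exact not_same_of_mem c2 c17
      | exact not_same_of_mem c2 c23
      | exact not_same_of_mem a3 a5
      | exact not_same_of_mem a3 a7
      | exact not_same_of_mem b3 b11
      | exact not_same_of_mem a3 a13
      | exact not_same_of_mem a3 a17
      | exact not_same_of_mem a3 a23
      | exact fun hS => not_same_7_5 hS.symm
      | exact fun hS => not_same_of_mem a11 a5 hS.symm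
      | exact fun hS => not_same_of_mem b17 b5 hS.symm
      | exact fun hS => not_same_of_mem b23 b5 hS.symm
      | exact fun hS => not_same_of_mem c11 c7 hS.symm
      | exact not_same_7_13
      | exact fun hS => not_same_of_mem b17 b7 hS.symm
      | exact fun hS => not_same_of_mem b23 b7 hS.symm
      | exact not_same_of_mem c11 c13
      | exact not_same_of_mem c11 c17
      | exact not_same_of_mem c11 c23
      | exact fun hS => not_same_of_mem b17 b13 hS.symm
      | exact fun hS => not_same_of_mem b23 b13 hS.symm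
      | exact not_same_17_23

end Cfsg.Agent.H301.PQ.FiTwentyThree
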