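import Cfsg.Agent.H301.PQ.Krein
import Cfsg.Agent.H301.PQ.FiTwentyThree
import Cfsg.Agent.H838.SylFive
import Cfsg.Agent.H838.Bridge

/-!
# S4612: the pair 5, 13 of `Fi₂₃` (helper301)

A constituent of `Sym² 782 - 1 - 782 - 30888` (degree 274482, the class sum of the transpositions is `-9`).
-/

set_option autoImplicit false
set_option linter.unusedSectionVars false

open Cfsg Cfsg.Agent

namespace Cfsg.Agent.H301.PQ.FiTwentyThree

open Cfsg.Agent.H317.PQ Cfsg.Agent.Characters.Core Cfsg.Agent.Blocks.Basic Cfsg.Agent.Blocks.Local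
open Cfsg.Agent.H329.PQ Cfsg.Agent.H766.PQ Cfsg.Agent.H642.PQ Cfsg.Agent.H690.Spor.RankThree
open Cfsg.Agent.H690.Spor.RankThree.R3 Cfsg.Agent.H968.Imc
open Cfsg.Agent.H301.PQ Cfsg.Agent.H301.PQ.KreinK Cfsg.Agent.H358.A3 Cfsg.Agent.H101.PQ Cfsg.Agent.Fischer.Abstract
open Cfsg.Spor (Fi23)
open scoped ComplexConjugate

theorem card_col {X : Type*} [Fintype X] [DecidableEq X] (P : X → Prop) [DecidablePred P] {n m : ℕ}
    (hn : Nat.card X = n) (hm : Nat.card {y // P y} = m) (x : X) (hx : P x) (A B C : ℂ) :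
    ∑ y : X, (if y = x then A else if P y then B else C) = A + (m - 1) * B + (n - m) * C := by
  have h1 : ∀ y : X, (if y = x then A else if P y then B else C) =
      C + (if P y then (B - C) else 0) + (if y = x then (A - B) else 0) := by
    intro y
    by_cases h2 : y = x
    · subst h2
      rw [if_pos rfl, if_pos hx, if_pos rfl]
      ring
    · rw [if_neg h2, if_neg h2]
      split_ifs <;> ring
  rw [Finset.sum_congr rfl fun y _ => h1 y, Finset.sum_add_distrib, Finset.sum_add_distrib, Finset.sum_const,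
    Finset.card_univ, ← Nat.card_eq_fintype_card, hn, ← Finset.sum_filter, Finset.sum_const, Finset.sum_ite_eq',
    if_pos (Finset.mem_univ _), nsmul_eq_mul, nsmul_eq_mul]
  have h2 : (Finset.univ.filter fun y => P y).card = m := by
    rw [← hm, Nat.card_eq_fintype_card, Fintype.card_subtype]
  rw [h2]
  ring

/-- **The constituent.** -/
theorem exists_psi : ∃ (R : Rank3 Fi23 (Fi23 ⧸ Fischer.Fi23Class.K)) (ψ : IrrCharacter Fi23),
    R.t R.x0 = Fischer.Fi23Z.z0 ∧ ¬ 5 ∣ charDegree (ψ : Fi23 → ℂ) ∧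
    (Subgroup.centralizer ({R.t R.x0} : Set Fi23)).index = 31671 ∧
    (31671 : ℂ) * (ψ : Fi23 → ℂ) (R.t R.x0) = -9 * (ψ : Fi23 → ℂ) 1 := by
  classical
  have hfin := finite_fi23
  have := Fintype.ofFinite Fi23
  obtain ⟨R, hR0, -, hR⟩ := R08.FiTwentyThree.exists_rank3
  have h0 := H332.EB.FiTh.r3 R hR
  have htr := h0.trans
  have hX := H332.EB.FiTh.card_X R hR
  have hfinX := H332.EB.FiTh.finite_X R hR
  have := Fintype.ofFinite (Fi23 ⧸ Fischer.Fi23Class.K)
  obtain ⟨r, s, c₁, c₂, h1, -, k1, k2, hpar⟩ := exists_vals' h0 _ chkV_true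
  rw [Bool.and_eq_true, beq_iff_eq, beq_iff_eq] at h1
  obtain ⟨rfl, rfl⟩ := h1
  obtain ⟨b, a, hb, ha, hfix, hval, hz, hu, v1, v2⟩ := fischer_vals' R (id : Fi23 → Fi23) (fun _ _ => rfl) h0 8 352
    30888 782 chkV_true (by norm_num) (by norm_num)
  have hi : (Subgroup.centralizer ({R.t R.x0} : Set Fi23)).index = 31671 := by
    rw [R.centralizer_eq_stabilizer, MulAction.index_stabilizer_of_transitive, hX]
  -- parameters
  obtain ⟨A, hA⟩ : ∃ A : (Fi23 ⧸ Fischer.Fi23Class.K) → (Fi23 ⧸ Fischer.Fi23Class.K) → Prop, A = fun x y => ¬ R.Com x y :=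
    ⟨_, rfl⟩
  have hab : ∀ x y, ∑ z, adj (fun x y => ¬ R.Com x y) x z * adj (fun x y => ¬ R.Com x y) z y =
      (((28160 : ℕ) : ℂ) - ((25344 : ℕ) : ℂ)) * dia x y + (((25000 : ℕ) : ℂ) - ((25344 : ℕ) : ℂ)) *
        adj (fun x y => ¬ R.Com x y) x y + ((25344 : ℕ) : ℂ) := by
    intro x y
    rw [hpar]
    push_cast
    ring
  obtain ⟨K₁, hK₁⟩ : ∃ K, K = ker (fun x y => ¬ R.Com x y) 28160 (Nat.card (Fi23 ⧸ Fischer.Fi23Class.K)) 8 (-352) :=
    ⟨_, rfl⟩
  obtain ⟨K₂, hK₂⟩ : ∃ K, K = ker (fun x y => ¬ R.Com x y) 28160 (Nat.card (Fi23 ⧸ Fischer.Fi23Class.K)) (-352) 8 :=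
    ⟨_, rfl⟩
  have q1 : ∀ a c, ∑ b, K₁ a b * K₁ b c = K₁ a c := by
    intro a c
    rw [hK₁]
    exact h0.ker_mul hab (by norm_num) (by norm_num) (by norm_num) a c
  have q2 : ∀ a c, ∑ b, K₂ a b * K₂ b c = K₂ a c := by
    intro a c
    rw [hK₂]
    exact h0.ker_mul hab (by norm_num) (by norm_num) (by norm_num) a c
  have i1 : ∀ (g : Fi23) x y, K₁ (g • x) (g • y) = K₁ x y := fun g x y => by rw [hK₁]; exact h0.ker_smul _ _ _ g x y
  have i2 : ∀ (g : Fi23) x y, K₂ (g • x) (g • y) = K₂ x y := fun g x y => by rw [hK₂]; exact h0.ker_smul _ _ _ g x y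
  have e1 : ∀ g, (b : Fi23 → ℂ) g = ∑ x, K₁ x (g • x) := by
    intro g
    rw [hK₁]
    refine val_eq_ker h0 (by norm_num) (fun x => ?_) g
    have := v1 x
    push_cast at this ⊢
    linear_combination this
  have e2 : ∀ g, (a : Fi23 → ℂ) g = ∑ x, K₂ x (g • x) := by
    intro g
    rw [hK₂]
    refine val_eq_ker h0 (by norm_num) (fun x => ?_) g
    have := v2 x
    push_cast at this ⊢
    linear_combination -this
  have w2 : ∀ x y, K₂ x y = if y = x then 2 / 81 else if R.Com x y then 1 / 405 else -1 / 3240 := by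
    intro x y
    rw [hK₂]
    unfold ker adj dia
    rw [hX]
    by_cases h2 : y = x
    · subst h2
      rw [if_neg (not_not.2 (R.com_self y)), if_pos rfl, if_pos rfl]
      norm_num
    · rw [if_neg (Ne.symm h2), if_neg h2]
      by_cases h3 : R.Com x y
      · rw [if_neg (not_not.2 h3), if_pos h3]
        norm_num
      · rw [if_pos h3, if_neg h3]
        norm_num
  have w1 : ∀ x y, K₁ x y = if y = x then 30888 / 31671 else if R.Com x y then -352 / 140760 else 39 / 140760 := by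
    intro x y
    rw [hK₁]
    unfold ker adj dia
    rw [hX]
    by_cases h2 : y = x
    · subst h2
      rw [if_neg (not_not.2 (R.com_self y)), if_pos rfl, if_pos rfl]
      norm_num
    · rw [if_neg (Ne.symm h2), if_neg h2]
      by_cases h3 : R.Com x y
      · rw [if_neg (not_not.2 h3), if_pos h3]
        norm_num
      · rw [if_pos h3, if_neg h3]
        norm_num
  have hcom : ∀ x, Nat.card {y // R.Com x y} = 3511 := fun x => by
    have := card_com_add R x (h0.cardk x) h0.cardn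
    omega
  -- the Krein parameters
  have kr0 : ∑ y, K₂ R.x0 y ^ 2 * ((fun _ _ => 1 / 31671 : (Fi23 ⧸ Fischer.Fi23Class.K) → (Fi23 ⧸ Fischer.Fi23Class.K) → ℂ) R.x0 y) ≠ 0 := by
    have h2 : ∀ y, K₂ R.x0 y ^ 2 * (1 / 31671 : ℂ) = if y = R.x0 then (2 / 81) ^ 2 * (1 / 31671) else
        if R.Com R.x0 y then (1 / 405) ^ 2 * (1 / 31671) else (-1 / 3240) ^ 2 * (1 / 31671) := by
      intro y
      rw [w2]
      split_ifs <;> rfl
    rw [Finset.sum_congr rfl fun y _ => h2 y, card_col _ hX (hcom R.x0) R.x0 (R.com_self _)]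
    norm_num
  have kr1 : ∑ y, K₂ R.x0 y ^ 2 * K₁ R.x0 y ≠ 0 := by
    have h2 : ∀ y, K₂ R.x0 y ^ 2 * K₁ R.x0 y = if y = R.x0 then (2 / 81) ^ 2 * (30888 / 31671) else
        if R.Com R.x0 y then (1 / 405) ^ 2 * (-352 / 140760) else (-1 / 3240) ^ 2 * (39 / 140760) := by
      intro y
      rw [w2, w1]
      split_ifs <;> rfl
    rw [Finset.sum_congr rfl fun y _ => h2 y, card_col _ hX (hcom R.x0) R.x0 (R.com_self _)]
    norm_num
  have kr2 : ∑ y, K₂ R.x0 y ^ 2 * K₂ R.x0 y ≠ 0 := by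
    have h2 : ∀ y, K₂ R.x0 y ^ 2 * K₂ R.x0 y = if y = R.x0 then (2 / 81) ^ 2 * (2 / 81) else
        if R.Com R.x0 y then (1 / 405) ^ 2 * (1 / 405) else (-1 / 3240) ^ 2 * (-1 / 3240) := by
      intro y
      rw [w2]
      split_ifs <;> rfl
    rw [Finset.sum_congr rfl fun y _ => h2 y, card_col _ hX (hcom R.x0) R.x0 (R.com_self _)]
    norm_num
  obtain ⟨S, hS⟩ : ∃ S : Fi23 → ℂ, S = fun g => ((a : Fi23 → ℂ) g ^ 2 + (a : Fi23 → ℂ) (g * g)) / 2 := ⟨_, rfl⟩
  have hSc : IsCharacter Fi23 S := by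
    rw [hS]
    exact PermChar.SymAlt.isCharacter_symSq (isIrr_isCharacter a.2)
  have n0 : ∑ g : Fi23, S g * conj ((one Fi23 : Fi23 → ℂ) g) ≠ 0 := by
    have := krein q2 i2 (L := fun _ _ => 1 / 31671) (fun a c => by
      rw [Finset.sum_const, Finset.card_univ, ← Nat.card_eq_fintype_card, hX, nsmul_eq_mul]
      norm_num) (fun g x y => rfl) R.x0 kr0
    have h2 : ∀ g : Fi23, S g * conj ((one Fi23 : Fi23 → ℂ) g) = ((∑ x, K₂ x (g • x)) ^ 2 + ∑ x, K₂ x ((g * g) • x)) / 2 *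
        ∑ x : (Fi23 ⧸ Fischer.Fi23Class.K), (fun _ _ => 1 / 31671 : (Fi23 ⧸ Fischer.Fi23Class.K) →
          (Fi23 ⧸ Fischer.Fi23Class.K) → ℂ) x (g • x) := by
      intro g
      rw [hS, Finset.sum_const, Finset.card_univ, ← Nat.card_eq_fintype_card, hX, nsmul_eq_mul]
      show ((a : Fi23 → ℂ) g ^ 2 + (a : Fi23 → ℂ) (g * g)) / 2 * conj (1 : ℂ) = _
      rw [e2, e2, map_one]
      norm_num
    rw [Finset.sum_congr rfl fun g _ => h2 g]
    exact this
  have cb : ∀ g, conj ((b : Fi23 → ℂ) g) = (b : Fi23 → ℂ) g := by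
    intro g
    have h2 : (b : Fi23 → ℂ) g = ((nR Fi23 (fun x y => ¬ R.Com x y) g : ℂ) + 352 * (fx Fi23 (Fi23 ⧸ Fischer.Fi23Class.K) g : ℂ) - 28512) / 360 := by
      have := v1 g
      push_cast at this
      linear_combination (1 / 360 : ℂ) * this
    rw [h2]
    simp only [map_div₀, map_sub, map_add, map_mul, map_natCast, map_ofNat]
  have ca : ∀ g, conj ((a : Fi23 → ℂ) g) = (a : Fi23 → ℂ) g := by
    intro g
    have h2 : (a : Fi23 → ℂ) g = (8 * (fx Fi23 (Fi23 ⧸ Fischer.Fi23Class.K) g : ℂ) + 28152 - (nR Fi23 (fun x y => ¬ R.Com x y) g : ℂ)) / 360 := by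
      have := v2 g
      push_cast at this
      linear_combination (1 / 360 : ℂ) * this
    rw [h2]
    simp only [map_div₀, map_sub, map_add, map_mul, map_natCast, map_ofNat]
  have n1 : ∑ g : Fi23, S g * conj ((b : Fi23 → ℂ) g) ≠ 0 := by
    have := krein q2 i2 q1 i1 R.x0 kr1
    simp only [cb]
    simp only [hS, e1, e2]
    exact this
  have n2 : ∑ g : Fi23, S g * conj ((a : Fi23 → ℂ) g) ≠ 0 := by
    have := krein q2 i2 q2 i2 R.x0 kr2
    simp only [ca]
    simp only [hS, e2]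
    exact this
  have hda : (a : Fi23 → ℂ) 1 = 782 := by
    rw [irr_one_eq_charDegree a.2, ha]
    norm_num
  have hdb : (b : Fi23 → ℂ) 1 = 30888 := by
    rw [irr_one_eq_charDegree b.2, hb]
    norm_num
  have hne1 : one Fi23 ≠ a := by
    intro h2
    rw [← h2] at hda
    have h3 : (1 : ℂ) = 782 := hda
    norm_num at h3
  have hne2 : one Fi23 ≠ b := by
    intro h2
    rw [← h2] at hdb
    have h3 : (1 : ℂ) = 30888 := hdb
    norm_num at h3
  have hne3 : a ≠ b := by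
    intro h2
    rw [h2, hdb] at hda
    norm_num at hda
  have := finite_irr (G := Fi23)
  have := Fintype.ofFinite (IrrCharacter Fi23)
  obtain ⟨m, hm⟩ := exists_sub hSc {one Fi23, a, b} (by
    intro χ hχ
    simp only [Finset.mem_insert, Finset.mem_singleton] at hχ
    rcases hχ with rfl | rfl | rfl
    exacts [n0, n2, n1])
  obtain ⟨Θ, hΘ⟩ : ∃ Θ : Fi23 → ℂ, Θ = S - ∑ χ ∈ ({one Fi23, a, b} : Finset (IrrCharacter Fi23)), (χ : Fi23 → ℂ) :=
    ⟨_, rfl⟩
  rw [← hΘ] at hm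
  have hΘv : ∀ g, Θ g = ((a : Fi23 → ℂ) g ^ 2 + (a : Fi23 → ℂ) (g * g)) / 2 - 1 - (a : Fi23 → ℂ) g - (b : Fi23 → ℂ) g := by
    intro g
    rw [hΘ, Finset.sum_insert (by simp [hne1, hne2]), Finset.sum_insert (by simp [hne3]), Finset.sum_singleton, hS]
    show ((a : Fi23 → ℂ) g ^ 2 + (a : Fi23 → ℂ) (g * g)) / 2 - ((1 : ℂ) + ((a : Fi23 → ℂ) g + (b : Fi23 → ℂ) g)) = _
    ring
  have a_t : ∀ x, (a : Fi23 → ℂ) (R.t x) = 78 := by
    intro x
    have := (hval (R.t x) x rfl).2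
    push_cast at this
    linear_combination (1 / 360 : ℂ) * this
  have b_t : ∀ x, (b : Fi23 → ℂ) (R.t x) = 3432 := by
    intro x
    have := (hval (R.t x) x rfl).1
    push_cast at this
    linear_combination (1 / 360 : ℂ) * this
  have a_z : ∀ x y, x ≠ y → R.Com x y → (a : Fi23 → ℂ) (R.t x * R.t y) = 78 := by
    intro x y hxy hc
    have := (hz (R.t x * R.t y) x y hxy hc rfl).2
    push_cast at this
    linear_combination (1 / 360 : ℂ) * this
  have b_z : ∀ x y, x ≠ y → R.Com x y → (b : Fi23 → ℂ) (R.t x * R.t y) = 616 := by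
    intro x y hxy hc
    have := (hz (R.t x * R.t y) x y hxy hc rfl).1
    push_cast at this
    linear_combination (1 / 360 : ℂ) * this
  have a_u : ∀ x y, ¬ R.Com x y → (a : Fi23 → ℂ) (R.t x * R.t y) = -1 := by
    intro x y hc
    have := (hu (R.t x * R.t y) x y hc rfl).2
    push_cast at this
    linear_combination (1 / 360 : ℂ) * this
  have b_u : ∀ x y, ¬ R.Com x y → (b : Fi23 → ℂ) (R.t x * R.t y) = 351 := by
    intro x y hc
    have := (hu (R.t x * R.t y) x y hc rfl).1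
    push_cast at this
    linear_combination (1 / 360 : ℂ) * this
  have htt : ∀ x, R.t x * R.t x = 1 := R.sq'
  have T1 : Θ 1 = 274482 := by
    rw [hΘv, mul_one, hda, hdb]
    norm_num
  have Tt : ∀ x, Θ (R.t x) = -78 := by
    intro x
    rw [hΘv, htt, hda, a_t, b_t]
    norm_num
  have Tp : ∀ x y, Θ (R.t x * R.t y) = if y = x then 274482 else if R.Com x y then 2738 else -351 := by
    intro x y
    by_cases h2 : y = x
    · subst h2
      rw [if_pos rfl, htt, T1]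
    · rw [if_neg h2]
      by_cases h3 : R.Com x y
      · rw [if_pos h3, hΘv]
        have h4 : R.t x * R.t y * (R.t x * R.t y) = 1 := by
          have h5 : R.t x * R.t y = R.t y * R.t x := h3
          calc R.t x * R.t y * (R.t x * R.t y) = R.t x * R.t y * (R.t y * R.t x) := by rw [← h5]
            _ = R.t x * (R.t y * R.t y) * R.t x := by group
            _ = 1 := by rw [htt, mul_one, htt]
        rw [h4, hda, a_z x y (Ne.symm h2) h3, b_z x y (Ne.symm h2) h3]
        norm_num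
      · rw [if_neg h3, hΘv]
        have h4 : R.t x * R.t y * (R.t x * R.t y) = R.t y * R.t x := by
          have h5 : R.t x * R.t y * R.t x = R.t y * R.t x * R.t y := (R.com_or_braid x y).resolve_left h3
          calc R.t x * R.t y * (R.t x * R.t y) = R.t x * R.t y * R.t x * R.t y := by group
            _ = R.t y * R.t x * (R.t y * R.t y) := by rw [h5]; group
            _ = R.t y * R.t x := by rw [htt, mul_one]
        rw [h4, a_u x y h3, b_u x y h3, a_u y x (fun h => h3 (R.com_symm h))]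
        norm_num
  have hQ : QQ R ((-9 : ℝ) : ℂ) Θ = 0 := by
    unfold QQ
    simp only [Tp, Tt, T1]
    rw [Finset.sum_congr rfl fun x _ => card_col _ hX (hcom x) x (R.com_self x) 274482 2738 (-351)]
    simp only [Finset.sum_const, Finset.card_univ, nsmul_eq_mul]
    rw [← Nat.card_eq_fintype_card, hX]
    push_cast
    norm_num
  rw [← hm] at hQ
  obtain ⟨ψ, h5, h6⟩ : ∃ ψ : IrrCharacter Fi23, m ψ ≠ 0 ∧ ¬ 5 ∣ charDegree (ψ : Fi23 → ℂ) := by
    by_contra hcon
    push Not at hcon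
    have h7 : ∀ ψ : IrrCharacter Fi23, 5 ∣ m ψ * charDegree (ψ : Fi23 → ℂ) := by
      intro ψ
      by_cases h8 : m ψ = 0
      · rw [h8, zero_mul]
        exact dvd_zero _
      · exact dvd_mul_of_dvd_right (hcon ψ h8) _
    have h8 : (5 : ℕ) ∣ ∑ ψ : IrrCharacter Fi23, m ψ * charDegree (ψ : Fi23 → ℂ) := Finset.dvd_sum fun ψ _ => h7 ψ
    have h9 : ∑ ψ : IrrCharacter Fi23, m ψ * charDegree (ψ : Fi23 → ℂ) = 274482 := by
      have h10 := congrFun hm 1
      rw [T1, Finset.sum_apply] at h10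
      have h11 : ∀ ψ : IrrCharacter Fi23, (m ψ • (ψ : Fi23 → ℂ)) 1 = ((m ψ * charDegree (ψ : Fi23 → ℂ) : ℕ) : ℂ) := by
        intro ψ
        rw [Pi.smul_apply, nsmul_eq_mul, irr_one_eq_charDegree ψ.2, Nat.cast_mul]
      rw [Finset.sum_congr rfl fun ψ _ => h11 ψ, ← Nat.cast_sum] at h10
      exact_mod_cast h10
    rw [h9] at h8
    revert h8
    decide
  refine ⟨R, ψ, hR0, h6, hi, ?_⟩
  have h7 := eq_of_QQ R hQ h5
  rw [hX] at h7
  push_cast at h7
  exact h7

theorem mem_sup_comm {G : Type*} [Group G] {A B : Subgroup G} (hc : ∀ a ∈ A, ∀ b ∈ B, a * b = b * a) {y : G}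
    (hy : y ∈ A ⊔ B) : ∃ a ∈ A, ∃ b ∈ B, a * b = y := by
  have h3 : y ∈ Subgroup.closure ((A : Set G) ∪ (B : Set G)) := by
    rwa [Subgroup.closure_union, Subgroup.closure_eq, Subgroup.closure_eq]
  clear hy
  induction h3 using Subgroup.closure_induction with
  | mem y hy =>
    rcases hy with hy | hy
    · exact ⟨y, hy, 1, OneMemClass.one_mem _, mul_one _⟩
    · exact ⟨1, OneMemClass.one_mem _, y, hy, one_mul _⟩
  | one => exact ⟨1, OneMemClass.one_mem _, 1, OneMemClass.one_mem _, one_mul _⟩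
  | mul y z _ _ hy hz =>
    obtain ⟨a, ha, b, hb, rfl⟩ := hy
    obtain ⟨c, hc', d, hd, rfl⟩ := hz
    refine ⟨a * c, mul_mem ha hc', b * d, mul_mem hb hd, ?_⟩
    have h4 := hc c hc' b hb
    calc a * c * (b * d) = a * (c * b) * d := by group
      _ = a * (b * c) * d := by rw [h4]
      _ = a * b * (c * d) := by group
  | inv y _ hy =>
    obtain ⟨a, ha, b, hb, rfl⟩ := hy
    refine ⟨a⁻¹, inv_mem ha, b⁻¹, inv_mem hb, ?_⟩
    rw [← mul_inv_rev, hc a ha b hb]

open Cfsg.Agent.H838.Fi23 Cfsg.Agent.H838.Fi23.Syl Cfsg.Agent.LThreeFi23 in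
/-- the 5'-elements centralizing a Sylow 5-subgroup -/
theorem five_cases {y : Fi23} (hy : y ∈ Subgroup.centralizer (E0 : Set Fi23)) (hy5 : ¬ 5 ∣ orderOf y) :
    y = 1 ∨ y = el .i := by
  have hfin := finite_fi23
  obtain ⟨f, g1, g2, g3⟩ := H838.Fi23.exists_S7
  have hf : Syl.Hom7 f := ⟨g1, g2, g3⟩
  have hcE : ∀ a ∈ E0, ∀ b ∈ Subgroup.zpowers (el .i), a * b = b * a := by
    intro a ha b hb
    have h1 : b ∈ Subgroup.centralizer (E0 : Set Fi23) := by
      rw [← Syl.cent_E0 hf]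
      exact Subgroup.mem_sup_right hb
    exact Subgroup.mem_centralizer_iff.1 h1 a ha
  rw [← Syl.cent_E0 hf] at hy
  obtain ⟨e, he, s, hs, rfl⟩ := mem_sup_comm hcE hy
  have hes : Commute e s := hcE e he s hs
  have hs2 : s ^ 2 = 1 := by
    obtain ⟨k, rfl⟩ := hs
    show (el .i ^ k) ^ 2 = 1
    rw [← zpow_natCast, ← zpow_mul, mul_comm, zpow_mul, zpow_natCast, pow_two, el_sq, one_zpow]
  have he25 : e ^ 25 = 1 := by
    have h1 : (⟨e, he⟩ : ↥E0) ^ 25 = 1 := by
      rw [← Syl.card_E0]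
      exact pow_card_eq_one'
    exact congrArg Subtype.val h1
  have h50 : (e * s) ^ 50 = 1 := by
    rw [hes.mul_pow, show (50 : ℕ) = 25 * 2 by norm_num, pow_mul, he25, one_pow, one_mul, mul_comm 25 2, pow_mul, hs2,
      one_pow]
  have h2 : orderOf (e * s) ∣ 2 := by
    have h1 : orderOf (e * s) ∣ 25 * 2 := orderOf_dvd_of_pow_eq_one h50
    refine Nat.Coprime.dvd_of_dvd_mul_left ?_ h1
    rw [show (25 : ℕ) = 5 ^ 2 by norm_num]
    exact (Nat.Coprime.pow_left 2 ((Nat.Prime.coprime_iff_not_dvd (by norm_num)).2 hy5)).symm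
  have h3 : (e * s) ^ 2 = 1 := orderOf_dvd_iff_pow_eq_one.1 h2
  rw [hes.mul_pow, hs2, mul_one] at h3
  have h4 : e = 1 := by
    calc e = e ^ 25 * ((e ^ 2) ^ 12)⁻¹ := by group
      _ = 1 := by rw [he25, h3, one_pow, inv_one, one_mul]
  rw [h4, one_mul]
  obtain ⟨k, rfl⟩ := hs
  rcases Int.even_or_odd' k with ⟨j, rfl | rfl⟩
  · left
    show el .i ^ (2 * j) = 1
    rw [zpow_mul, show (2 : ℤ) = ((2 : ℕ) : ℤ) from rfl, zpow_natCast, pow_two, el_sq, one_zpow]
  · right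
    show el .i ^ (2 * j + 1) = el .i
    rw [zpow_add, zpow_one, zpow_mul, show (2 : ℤ) = ((2 : ℕ) : ℤ) from rfl, zpow_natCast, pow_two, el_sq, one_zpow,
      one_mul]

open Cfsg.Agent.H838.Fi23 Cfsg.Agent.H838.Fi23.Syl Cfsg.Agent.LThreeFi23 in
theorem not_same_5_13 : ¬ Same 5 13 Fi23 := by
  have hfin := finite_fi23
  have h5 : Fact (Nat.Prime 5) := ⟨by norm_num⟩
  obtain ⟨R, ψ, hR0, hψ5, hi, hψ⟩ := exists_psi
  -- the value is an integer
  have hq : ∃ q : ℚ, (ψ : Fi23 → ℂ) (R.t R.x0) = q := by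
    refine ⟨-9 * (charDegree (ψ : Fi23 → ℂ) : ℚ) / 31671, ?_⟩
    rw [irr_one_eq_charDegree ψ.2] at hψ
    push_cast
    linear_combination (1 / 31671 : ℂ) * hψ
  obtain ⟨v, hv⟩ := Characters.GaloisBasic.exists_int_of_rat (isIrr_isCharacter ψ.2) _ hq
  have hrel : (3519 : ℤ) * v = -(charDegree (ψ : Fi23 → ℂ) : ℤ) := by
    rw [hv, irr_one_eq_charDegree ψ.2] at hψ
    have h1 : ((3519 * v : ℤ) : ℂ) = ((-(charDegree (ψ : Fi23 → ℂ) : ℤ) : ℤ) : ℂ) := by
      push_cast
      linear_combination (1 / 9 : ℂ) * hψ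
    exact_mod_cast h1
  refine not_same_of_mem (χ := ψ) ?_ ?_
  · intro M hM
    have hMp : M.IsPrime := isPrime_of_isPModular hM
    refine H493.RatB.mem_of_value hM (U := E0) (IsPGroup.of_card (n := 2) (by rw [Syl.card_E0]; norm_num)) ψ hψ5
      fun y hy hy5 => ?_
    have hcl : (ψ : Fi23 → ℂ) (el .i) = v := by
      rw [← hv, hR0]
      have h1 : el .i ∈ DD := el_mem_DD .i
      rw [DD_eq .z] at h1
      obtain ⟨g, hg⟩ := h1
      rw [hg]
      exact isIrr_isClassFunction ψ.2 _ _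
    rcases five_cases hy hy5 with rfl | rfl
    · rw [sub_self]
      exact Blocks.LocalRing.memLocalIdeal_zero hM
    · rw [hcl, irr_one_eq_charDegree ψ.2]
      have h6 : (5 : ℤ) ∣ (charDegree (ψ : Fi23 → ℂ) : ℤ) - v := by omega
      obtain ⟨w, hw⟩ := h6
      have h7 : (charDegree (ψ : Fi23 → ℂ) : ℂ) - v = (w : ℂ) * ((5 : ℕ) : ℂ) := by
        have h8 : (((charDegree (ψ : Fi23 → ℂ) : ℤ) - v : ℤ) : ℂ) = ((5 * w : ℤ) : ℂ) := by rw [hw]
        push_cast at h8 ⊢
        linear_combination h8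
      rw [h7]
      exact Blocks.LocalRing.memLocalIdeal_mul_left hM (Blocks.LocalRing.memLocalRing_intCast hM w)
        ((Blocks.LocalRing.memLocalIdeal_natCast_iff hM _).2 (dvd_refl 5))
  · by_cases h13 : 13 ∣ charDegree (ψ : Fi23 → ℂ)
    · exact not_mem_dz (by norm_num) (by rw [card_fi23]; norm_num) rfl 1 (by rw [card_fi23]; norm_num) (by simpa using h13)
    · intro h
      have h1 := val_test (by norm_num) h _ (by rw [hi]; norm_num) hv
      apply h13
      have h2 : (13 : ℤ) ∣ (charDegree (ψ : Fi23 → ℂ) : ℤ) := by omega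
      exact_mod_cast h2

/-- all the pairs -/
theorem pairs_all {p q : ℕ} (hp : p.Prime) (hq : q.Prime) (hpq : p < q) (hpG : p ∣ Nat.card Fi23)
    (hqG : q ∣ Nat.card Fi23) : ¬ Same p q Fi23 := by
  by_cases h : p = 5 ∧ q = 13
  · obtain ⟨rfl, rfl⟩ := h
    exact not_same_5_13
  · exact pairs hp hq hpq hpG hqG h

universe w

/-- **The row of `Fi₂₃`.** -/
theorem row_fi23 {S : Type w} [Group S] (h : Cfsg.Spor.IsoFi23 S) : Row S := by
  obtain ⟨e⟩ := h
  have h1 : Row Fi23 := Row.of_lt fun p q hp hq hpq hpG hqG => pairs_all hp hq hpq hpG hqG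
  first
    | exact Row.of_equiv e h1
    | exact Row.of_equiv e.symm h1

end Cfsg.Agent.H301.PQ.FiTwentyThree
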