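import Cfsg.Agent.H301.PQ.RankThree
import Cfsg.Agent.H329.PQ.Trace
import Cfsg.Agent.H766.PQ.A01
import Cfsg.Agent.H642.PQ.Full
import Cfsg.Agent.H493.RatB.Sq

/-!
# S4612: membership in the principal blocks by numbers (helper301)
-/

set_option autoImplicit false
set_option linter.unusedSectionVars false

open Cfsg Cfsg.Agent

namespace Cfsg.Agent.H301.PQ

open Cfsg.Agent.H317.PQ Cfsg.Agent.Characters.Core Cfsg.Agent.Blocks.Basic Cfsg.Agent.Blocks.Local
open Cfsg.Agent.H329.PQ Cfsg.Agent.H766.PQ Cfsg.Agent.H642.PQ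

universe u v

variable {p q : ℕ} {G : Type u} [Group G]

theorem one_mem [Finite G] (hp : p.Prime) : one G ∈ B0 p G := by
  intro M hM
  have : M.IsPrime := isPrime_of_isPModular hM
  exact sameBlock_refl _

theorem charDegree_one' : charDegree ((one G : IrrCharacter G) : G → ℂ) = 1 := charDegree_of_eq (by simp [one])

/-- defect zero -/
theorem not_mem_dz [Finite G] (hp : p.Prime) (hpG : p ∣ Nat.card G) {χ : IrrCharacter G} {d : ℕ}
    (hd : charDegree (χ : G → ℂ) = d) (k : ℕ) (hG : ¬ p ^ (k + 1) ∣ Nat.card G) (hk : p ^ k ∣ d) : χ ∉ B0 p G := by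
  intro h
  have h1 := not_defect_zero hp hpG h
  subst hd
  have h2 := fact_le hp (charDegree_pos χ.2).ne' Nat.card_pos.ne' hG hk
  omega

section trace

variable {X : Type v} [MulAction G X] [Finite X] [MulAction.IsPretransitive G X] {a b : IrrCharacter G}

theorem trace3 [Finite G] (hp : p.Prime) (h : MF G X ![one G, a, b]) {k : ℕ} (hk : p ^ k ∣ Nat.card X) :
    (a ∈ B0 p G ∧ b ∈ B0 p G) ∨
    (a ∈ B0 p G ∧ b ∉ B0 p G ∧ p ^ k ∣ 1 + charDegree (a : G → ℂ)) ∨
    (a ∉ B0 p G ∧ b ∈ B0 p G ∧ p ^ k ∣ 1 + charDegree (b : G → ℂ)) ∨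
    (a ∉ B0 p G ∧ b ∉ B0 p G ∧ p ^ k ∣ 1) := by
  classical
  obtain ⟨S, hS⟩ : ∃ S : Finset (Fin 3), ∀ i, i ∈ S ↔ ![one G, a, b] i ∈ B0 p G :=
    ⟨Finset.univ.filter fun i => ![one G, a, b] i ∈ B0 p G, fun i => by simp⟩
  have h1 := (trace_test hp h S hS).1 k hk
  have h2 : ∑ i ∈ S, charDegree (![one G, a, b] i : G → ℂ) =
      ∑ i : Fin 3, if ![one G, a, b] i ∈ B0 p G then charDegree (![one G, a, b] i : G → ℂ) else 0 := by
    rw [← Finset.sum_filter]
    congr 1
    ext i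
    simp [hS]
  have h3 : (∑ i : Fin 3, if ![one G, a, b] i ∈ B0 p G then charDegree (![one G, a, b] i : G → ℂ) else 0) =
      1 + (if a ∈ B0 p G then charDegree (a : G → ℂ) else 0) + (if b ∈ B0 p G then charDegree (b : G → ℂ) else 0) := by
    rw [Fin.sum_univ_three]
    refine congrArg₂ (· + ·) (congrArg₂ (· + ·) ?_ rfl) rfl
    exact (if_pos (one_mem (G := G) hp)).trans charDegree_one'
  rw [h2, h3] at h1
  by_cases ha : a ∈ B0 p G
  · by_cases hb : b ∈ B0 p G
    · exact Or.inl ⟨ha, hb⟩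
    · rw [if_pos ha, if_neg hb, add_zero] at h1
      exact Or.inr (Or.inl ⟨ha, hb, h1⟩)
  · by_cases hb : b ∈ B0 p G
    · rw [if_neg ha, if_pos hb, add_zero] at h1
      exact Or.inr (Or.inr (Or.inl ⟨ha, hb, h1⟩))
    · rw [if_neg ha, if_neg hb, add_zero, add_zero] at h1
      exact Or.inr (Or.inr (Or.inr ⟨ha, hb, h1⟩))

theorem mem_fst [Finite G] (hp : p.Prime) (h : MF G X ![one G, a, b]) (k : ℕ) {d : ℕ}
    (hd : charDegree (b : G → ℂ) = d) (hk : p ^ k ∣ Nat.card X) (h1 : ¬ p ^ k ∣ 1) (h2 : ¬ p ^ k ∣ 1 + d) :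
    a ∈ B0 p G := by
  subst hd
  rcases trace3 hp h hk with h3 | h3 | h3 | h3
  · exact h3.1
  · exact h3.1
  · exact absurd h3.2.2 h2
  · exact absurd h3.2.2 h1

theorem mem_snd [Finite G] (hp : p.Prime) (h : MF G X ![one G, a, b]) (k : ℕ) {d : ℕ}
    (hd : charDegree (a : G → ℂ) = d) (hk : p ^ k ∣ Nat.card X) (h1 : ¬ p ^ k ∣ 1) (h2 : ¬ p ^ k ∣ 1 + d) :
    b ∈ B0 p G := by
  subst hd
  rcases trace3 hp h hk with h3 | h3 | h3 | h3
  · exact h3.2
  · exact absurd h3.2.2 h2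
  · exact h3.2.1
  · exact absurd h3.2.2 h1

/-- one of the two is known to be outside of the block -/
theorem mem_fst_of_not [Finite G] (hp : p.Prime) (h : MF G X ![one G, a, b]) (hb : b ∉ B0 p G)
    (hk : p ∣ Nat.card X) : a ∈ B0 p G := by
  rcases trace3 (k := 1) hp h (by rwa [pow_one]) with h3 | h3 | h3 | h3
  · exact h3.1
  · exact h3.1
  · exact absurd h3.2.1 hb
  · rw [pow_one] at h3
    exact absurd h3.2.2 (fun h4 => hp.one_lt.not_ge (Nat.le_of_dvd one_pos h4))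

theorem mem_snd_of_not [Finite G] (hp : p.Prime) (h : MF G X ![one G, a, b]) (ha : a ∉ B0 p G)
    (hk : p ∣ Nat.card X) : b ∈ B0 p G := by
  rcases trace3 (k := 1) hp h (by rwa [pow_one]) with h3 | h3 | h3 | h3
  · exact h3.2
  · exact absurd h3.1 ha
  · exact h3.2.1
  · rw [pow_one] at h3
    exact absurd h3.2.2 (fun h4 => hp.one_lt.not_ge (Nat.le_of_dvd one_pos h4))

end trace

/-- the class test with numbers -/
theorem not_mem_class [Finite G] (hp : p.Prime) {χ : IrrCharacter G} (g : G) (d i : ℕ) (v c : ℤ)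
    (hd : charDegree (χ : G → ℂ) = d) (hv : (χ : G → ℂ) g = v)
    (hi : (Subgroup.centralizer ({g} : Set G)).index = i) (hc : c * d = (i : ℤ) * (d - v)) (hpc : ¬ (p : ℤ) ∣ c) :
    χ ∉ B0 p G := by
  intro h
  refine hpc (class_test hp h g (d := d) (v := v) (c := c) ?_ hv ?_)
  · rw [irr_one_eq_charDegree χ.2, hd]
    simp
  · rw [hi]
    exact hc

/-- the class test, only a multiple `N` of the class length is known -/
theorem not_mem_class' [Finite G] (hp : p.Prime) {χ : IrrCharacter G} (g : G) (d N : ℕ) (v c : ℤ)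
    (hd : charDegree (χ : G → ℂ) = d) (hv : (χ : G → ℂ) g = v)
    (hi : (Subgroup.centralizer ({g} : Set G)).index ∣ N) (hc : c * d = (N : ℤ) * (d - v)) (hpc : ¬ (p : ℤ) ∣ c) :
    χ ∉ B0 p G := by
  intro h
  have : Fact p.Prime := ⟨hp⟩
  obtain ⟨M, hM⟩ := Blocks.ExistsModular.exists_isPModular hp
  have hMp : M.IsPrime := isPrime_of_isPModular hM
  rw [B0_eq hp hM] at h
  have h1 := h g
  obtain ⟨m, hm⟩ := hi
  have hd' : (χ : G → ℂ) 1 = (d : ℂ) := by rw [irr_one_eq_charDegree χ.2, hd]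
  have hd0 : (d : ℂ) ≠ 0 := by
    rw [← hd']
    exact irr_one_ne_zero χ.2
  have h2 : (m : ℂ) * (centralChar (fun _ : G => (1 : ℂ)) g - centralChar (χ : G → ℂ) g) = (c : ℂ) := by
    have hc' : (c : ℂ) * d = (N : ℂ) * (d - v) := by exact_mod_cast hc
    rw [hm] at hc'
    push_cast at hc'
    unfold centralChar
    rw [hd', hv]
    field_simp
    linear_combination -hc'
  have h3 : MemLocalIdeal M (c : ℂ) := by
    rw [← h2]
    exact memLocalIdeal_mul_left (memLocalRing_natCast _) h1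
  exact hpc (int_dvd_of_mem hM h3)

/-- the value test, only a multiple `N` of the class length is known -/
theorem not_mem_val [Finite G] (hp : p.Prime) {χ : IrrCharacter G} (g : G) (d N : ℕ) (v : ℤ)
    (hd : charDegree (χ : G → ℂ) = d) (hv : (χ : G → ℂ) g = v)
    (hi : (Subgroup.centralizer ({g} : Set G)).index ∣ N) (hN : ¬ p ∣ N) (hpc : ¬ (p : ℤ) ∣ d - v) :
    χ ∉ B0 p G := by
  intro h
  apply hpc
  rw [← hd]
  exact val_test hp h g (fun h1 => hN (h1.trans hi)) hv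

/-- Brauer–Feit: the degrees in the principal block, `|G|_p ≤ p ^ 2` -/
theorem not_mem_dvd [Finite G] (hp : p.Prime) (hG : ¬ p ^ 3 ∣ Nat.card G) {χ : IrrCharacter G}
    (hd : p ∣ charDegree (χ : G → ℂ)) : χ ∉ B0 p G := by
  intro h
  have : Fact p.Prime := ⟨hp⟩
  obtain ⟨M, hM⟩ := Blocks.ExistsModular.exists_isPModular hp
  rw [B0_eq hp hM] at h
  refine H493.RatB.not_dvd_of_sq hM ?_ h hd
  by_contra hcon
  push Not at hcon
  exact hG ((pow_dvd_pow p hcon).trans (Nat.ordProj_dvd _ _))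

end Cfsg.Agent.H301.PQ
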