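import Cfsg.Agent.H436.Krein
import Cfsg.Agent.H301.PQ.Fischer
import Cfsg.Agent.H301.PQ.Tools
import Cfsg.Agent.H642.PQ.Full

/-!
# S4612: constituents of the symmetric square of a rank 3 character with a given value at the transpositions (helper301)

* `krein` : two invariant idempotent kernels `K, L` with `∑ y, K x₀ y ^ 2 * L x₀ y ≠ 0`: the symmetric square of the
  character of `K` has a common constituent with the character of `L`;
* `exists_constituent` : a character `Θ` on which the class sum of the transpositions has variance zero.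
-/

set_option autoImplicit false
set_option linter.unusedSectionVars false

namespace Cfsg.Agent.H301.PQ.KreinK

open Cfsg Cfsg.Agent.Characters.Core Cfsg.Agent.H651 Module
open Cfsg.Agent.H690.Spor.RankThree Cfsg.Agent.H690.Spor.RankThree.R3 Cfsg.Agent.H968.Imc
open Cfsg.Agent.H301.PQ Cfsg.Agent.Fischer.Abstract
open Cfsg.Agent.Blocks.Basic
open scoped ComplexConjugate

universe u v w

section kernel

variable {G : Type u} [Group G] {X : Type v} [MulAction G X] [Fintype X] [DecidableEq X]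

theorem exists_rep (K : X → X → ℂ) (hKK : ∀ a c, ∑ b, K a b * K b c = K a c)
    (hK : ∀ (g : G) a b, K (g • a) (g • b) = K a b) :
    ∃ (U : Subrepresentation (H651.permRep (MulAction.toPermHom G X))) (a : X → U.toSubmodule)
      (φ : X → (U.toSubmodule →ₗ[ℂ] ℂ)),
      (∀ (g : G) y, U.toRepresentation g (a y) = a (g • y)) ∧ (∀ x y, φ x (a y) = K x y) ∧
      ∀ g, U.toRepresentation.character g = ∑ x, K x (g • x) := by
  set E : Matrix X X ℂ := Matrix.of K with hE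
  obtain ⟨e, he⟩ : ∃ e, e = Matrix.toLin' E := ⟨_, rfl⟩
  obtain ⟨ρ, hρ⟩ : ∃ ρ : Representation ℂ G (X → ℂ), ρ = H651.permRep (MulAction.toPermHom G X) := ⟨_, rfl⟩
  rw [← hρ]
  have hρg : ∀ g : G, ρ g = Matrix.toLin' (pm ℂ (MulAction.toPermHom G X g)) := fun g => by rw [hρ]; rfl
  have hcomm : ∀ g, e ∘ₗ ρ g = ρ g ∘ₗ e := fun g => by
    have h9 : pm ℂ (MulAction.toPermHom G X g) * E = E * pm ℂ (MulAction.toPermHom G X g) :=
      pm_comm (fun a b => hK g a b)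
    rw [he, hρg, ← Matrix.toLin'_mul, ← Matrix.toLin'_mul, h9]
  have hEE : E * E = E := by
    ext a c
    rw [Matrix.mul_apply]
    exact hKK a c
  have hee : e ∘ₗ e = e := by rw [he, ← Matrix.toLin'_mul, hEE]
  let U : Subrepresentation ρ :=
    { toSubmodule := LinearMap.range e
      apply_mem_toSubmodule := by
        rintro g _ ⟨w, rfl⟩
        exact ⟨ρ g w, LinearMap.congr_fun (hcomm g) w⟩ }
  refine ⟨U, fun y => ⟨e (Pi.single y 1), ⟨_, rfl⟩⟩, fun x => (LinearMap.proj x).comp U.toSubmodule.subtype, ?_, ?_, ?_⟩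
  · intro g y
    apply Subtype.ext
    show ρ g (e (Pi.single y 1)) = e (Pi.single (g • y) 1)
    rw [← LinearMap.comp_apply, ← hcomm, LinearMap.comp_apply]
    congr 1
    rw [hρg, Matrix.toLin'_apply, Matrix.mulVec_single_one]
    funext x
    show pm ℂ (MulAction.toPermHom G X g) x y = _
    rw [pm_apply, Pi.single_apply]
    rfl
  · intro x y
    show (e (Pi.single y 1)) x = K x y
    rw [he, Matrix.toLin'_apply, Matrix.mulVec_single_one]
    rfl
  · intro g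
    have h3 : e ∘ₗ ρ g = (LinearMap.range e).subtype ∘ₗ (e.rangeRestrict ∘ₗ ρ g) := by
      ext v; rfl
    have h4 : U.toRepresentation.character g = LinearMap.trace ℂ (X → ℂ) (e ∘ₗ ρ g) := by
      rw [h3, LinearMap.trace_comp_comm']
      change LinearMap.trace ℂ _ (U.toRepresentation g) = _
      congr 1
      refine LinearMap.ext fun v => Subtype.ext ?_
      obtain ⟨_, ⟨w, rfl⟩⟩ := v
      change ρ g (e w) = e (ρ g (e w))
      have h5 : ρ g (e w) = e (ρ g w) := (LinearMap.congr_fun (hcomm g) w).symm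
      rw [h5]
      exact (LinearMap.congr_fun hee _).symm
    rw [h4, he, hρg, ← Matrix.toLin'_mul, Matrix.trace_toLin'_eq]
    exact Finset.sum_congr rfl fun a _ => mul_pm_apply (MulAction.toPermHom G X g) E a a

/-- **Krein parameters for invariant idempotent kernels.** -/
theorem krein [Fintype G] {K L : X → X → ℂ} (hKK : ∀ a c, ∑ b, K a b * K b c = K a c)
    (hK : ∀ (g : G) a b, K (g • a) (g • b) = K a b) (hLL : ∀ a c, ∑ b, L a b * L b c = L a c)
    (hL : ∀ (g : G) a b, L (g • a) (g • b) = L a b) (x₀ : X) (hne : ∑ y, K x₀ y ^ 2 * L x₀ y ≠ 0) :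
    ∑ g : G, ((∑ x, K x (g • x)) ^ 2 + ∑ x, K x ((g * g) • x)) / 2 * ∑ x, L x (g • x) ≠ 0 := by
  obtain ⟨U, a, φ, h1, h2, h3⟩ := exists_rep K hKK hK
  obtain ⟨W, b, ψ, k1, k2, k3⟩ := exists_rep L hLL hL
  have h := H436.Krein.sum_ne_zero U.toRepresentation W.toRepresentation a h1 b k1 (φ x₀) (ψ x₀) (by
    simpa only [h2, k2] using hne)
  simpa only [h3, k3] using h

end kernel

section kerval

variable {G : Type u} {X : Type v} [Group G] [MulAction G X] {S : X → X → Prop} {k l : ℕ}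

theorem val_eq_ker [Fintype X] [DecidableEq X] [DecidableRel S] (h : R3 G X S k l) {u v : ℂ} (huv : u ≠ v)
    {χ : G → ℂ} (hv : ∀ x, χ x * (u - v) = nR G S x - v * fx G X x - (k - v)) (g : G) :
    χ g = ∑ x : X, ker S k (Nat.card X) u v x (g • x) := by
  have hN : ∑ y : X, adj S y (g • y) = (nR G S g : ℂ) := by
    unfold adj nR
    rw [Finset.sum_boole, Nat.card_eq_fintype_card, Fintype.card_subtype]
  have h0 : u - v ≠ 0 := sub_ne_zero.2 huv
  rw [ker_val h, hN]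
  have h1 := hv g
  unfold fx at h1
  rw [← h1, mul_comm, mul_assoc, mul_inv_cancel₀ h0, mul_one]

end kerval

/-- a combination minus a set of constituents -/
theorem exists_sub {G : Type u} [Group G] [Fintype G] [Fintype (IrrCharacter G)] {S : G → ℂ} (hS : IsCharacter G S)
    (T : Finset (IrrCharacter G)) (hT : ∀ χ ∈ T, ∑ g : G, S g * conj ((χ : G → ℂ) g) ≠ 0) :
    ∃ m : IrrCharacter G → ℕ, ∑ ψ : IrrCharacter G, m ψ • (ψ : G → ℂ) = S - ∑ χ ∈ T, (χ : G → ℂ) := by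
  classical
  obtain ⟨m, hm⟩ := exists_nat_comb hS
  have h1 : ∀ χ ∈ T, 1 ≤ m χ := by
    intro χ hχ
    rw [Nat.one_le_iff_ne_zero]
    intro h0
    have h2 : classInner S (χ : G → ℂ) = m χ := by
      conv_lhs => rw [hm]
      exact classInner_sum_nsmul_irr m χ
    rw [h0, Nat.cast_zero, Characters.Core.classInner_def, mul_eq_zero] at h2
    rcases h2 with h2 | h2
    · exact (inv_ne_zero (by exact_mod_cast (Nat.card_pos (α := G)).ne')) h2
    · exact hT χ hχ h2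
  refine ⟨fun ψ => m ψ - (if ψ ∈ T then 1 else 0), ?_⟩
  rw [eq_sub_iff_add_eq]
  have h2 : ∑ χ ∈ T, (χ : G → ℂ) = ∑ ψ : IrrCharacter G, (if ψ ∈ T then 1 else 0) • (ψ : G → ℂ) := by
    have h3 : ∀ ψ : IrrCharacter G, (if ψ ∈ T then 1 else 0) • (ψ : G → ℂ) = if ψ ∈ T then (ψ : G → ℂ) else 0 := by
      intro ψ
      split_ifs
      · exact one_smul _ _
      · exact zero_smul _ _
    rw [Finset.sum_congr rfl fun ψ _ => h3 ψ, Finset.sum_ite_mem, Finset.univ_inter]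
  rw [h2, ← Finset.sum_add_distrib, hm]
  refine Finset.sum_congr rfl fun ψ _ => ?_
  rw [← add_smul, Nat.sub_add_cancel]
  split_ifs with h3
  · exact h1 ψ h3
  · exact Nat.zero_le _

section moments

variable {G : Type u} {X : Type v} [Group G] [MulAction G X] (R : Rank3 G X) [Fintype X] [Finite G]

/-- the class sum of the transpositions -/
theorem sum_t_mul (ψ : IrrCharacter G) (g : G) : ∑ x : X, (ψ : G → ℂ) (R.t x * g) =
    (Nat.card X : ℂ) * (ψ : G → ℂ) (R.t R.x0) / (ψ : G → ℂ) 1 * (ψ : G → ℂ) g := by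
  classical
  have := Fintype.ofFinite G
  have h1 := Characters.ClassMul.sum_class_char_mul ψ.2 (R.t R.x0) g
  have h2 : Finset.univ.filter (IsConj (R.t R.x0)) = Finset.univ.image R.t := by
    ext y
    rw [Finset.mem_filter, Finset.mem_image]
    constructor
    · rintro ⟨-, hy⟩
      obtain ⟨c, hc⟩ := isConj_iff.1 hy
      exact ⟨c • R.x0, Finset.mem_univ _, by rw [R.map_smul, hc]⟩
    · rintro ⟨x, -, rfl⟩
      obtain ⟨c, rfl⟩ := R.trans x
      exact ⟨Finset.mem_univ _, isConj_iff.2 ⟨c, (R.map_smul c R.x0).symm⟩⟩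
  have h3 : (Subgroup.centralizer ({R.t R.x0} : Set G)).index = Nat.card X := by
    have : MulAction.IsPretransitive G X := ⟨fun x y => by
      obtain ⟨a, rfl⟩ := R.trans x
      obtain ⟨b, rfl⟩ := R.trans y
      exact ⟨b * a⁻¹, by rw [mul_smul, inv_smul_smul]⟩⟩
    rw [R.centralizer_eq_stabilizer, MulAction.index_stabilizer_of_transitive]
  rw [h3, h2, Finset.sum_image (fun a _ b _ hab => R.t_injective hab)] at h1
  rw [h1]
  ring

/-- the quadratic form -/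
noncomputable def QQ (θ : ℂ) (f : G → ℂ) : ℂ :=
  ∑ x : X, ∑ y : X, f (R.t x * R.t y) - 2 * θ * ∑ x : X, f (R.t x) + θ ^ 2 * f 1

theorem QQ_irr (θ : ℂ) (ψ : IrrCharacter G) : QQ R θ (ψ : G → ℂ) =
    ((Nat.card X : ℂ) * (ψ : G → ℂ) (R.t R.x0) / (ψ : G → ℂ) 1 - θ) ^ 2 * (ψ : G → ℂ) 1 := by
  set c := (Nat.card X : ℂ) * (ψ : G → ℂ) (R.t R.x0) / (ψ : G → ℂ) 1 with hc
  have h1 : ∑ x : X, (ψ : G → ℂ) (R.t x) = c * (ψ : G → ℂ) 1 := by
    rw [hc, ← sum_t_mul R ψ 1]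
    simp only [mul_one]
  have h2 : ∑ x : X, ∑ y : X, (ψ : G → ℂ) (R.t x * R.t y) = c * (c * (ψ : G → ℂ) 1) := by
    rw [Finset.sum_comm, ← h1, Finset.mul_sum]
    exact Finset.sum_congr rfl fun y _ => sum_t_mul R ψ (R.t y)
  unfold QQ
  rw [h1, h2]
  ring

theorem QQ_comb [Fintype (IrrCharacter G)] (θ : ℂ) (m : IrrCharacter G → ℕ) :
    QQ R θ (∑ ψ : IrrCharacter G, m ψ • (ψ : G → ℂ)) = ∑ ψ : IrrCharacter G, (m ψ : ℂ) * QQ R θ (ψ : G → ℂ) := by
  unfold QQ
  have e : ∀ g : G, (∑ ψ : IrrCharacter G, m ψ • (ψ : G → ℂ)) g = ∑ ψ : IrrCharacter G, (m ψ : ℂ) * (ψ : G → ℂ) g := by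
    intro g
    rw [Finset.sum_apply]
    refine Finset.sum_congr rfl fun ψ _ => ?_
    rw [Pi.smul_apply, nsmul_eq_mul]
  simp only [e]
  have e1 : ∑ x : X, ∑ y : X, ∑ ψ : IrrCharacter G, (m ψ : ℂ) * (ψ : G → ℂ) (R.t x * R.t y) =
      ∑ ψ : IrrCharacter G, (m ψ : ℂ) * ∑ x : X, ∑ y : X, (ψ : G → ℂ) (R.t x * R.t y) := by
    simp only [Finset.mul_sum]
    rw [Finset.sum_congr rfl fun x _ => Finset.sum_comm, Finset.sum_comm]
  have e2 : ∑ x : X, ∑ ψ : IrrCharacter G, (m ψ : ℂ) * (ψ : G → ℂ) (R.t x) =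
      ∑ ψ : IrrCharacter G, (m ψ : ℂ) * ∑ x : X, (ψ : G → ℂ) (R.t x) := by
    simp only [Finset.mul_sum]
    rw [Finset.sum_comm]
  rw [e1, e2, Finset.mul_sum, Finset.mul_sum, ← Finset.sum_sub_distrib, ← Finset.sum_add_distrib]
  refine Finset.sum_congr rfl fun ψ _ => ?_
  ring

/-- **Variance zero.** -/
theorem eq_of_QQ [Fintype (IrrCharacter G)] {θ : ℝ} {m : IrrCharacter G → ℕ}
    (h : QQ R (θ : ℂ) (∑ ψ : IrrCharacter G, m ψ • (ψ : G → ℂ)) = 0) {ψ : IrrCharacter G} (hψ : m ψ ≠ 0) :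
    (Nat.card X : ℂ) * (ψ : G → ℂ) (R.t R.x0) = θ * (ψ : G → ℂ) 1 := by
  have hdeg : ∀ ψ : IrrCharacter G, (ψ : G → ℂ) 1 = (charDegree (ψ : G → ℂ) : ℂ) := fun ψ => irr_one_eq_charDegree ψ.2
  have hreal : ∀ ψ : IrrCharacter G, ∃ r : ℝ, (ψ : G → ℂ) (R.t R.x0) = r := by
    intro ψ
    have h1 := isCharacter_apply_inv (isIrr_isCharacter ψ.2) (R.t R.x0)
    have h2 : (R.t R.x0)⁻¹ = R.t R.x0 := inv_eq_of_mul_eq_one_left R.sq
    rw [h2] at h1
    exact Complex.conj_eq_iff_real.1 h1.symm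
  choose r hr using hreal
  rw [QQ_comb] at h
  have hd0 : ∀ ψ : IrrCharacter G, 0 < charDegree (ψ : G → ℂ) := fun ψ => charDegree_pos ψ.2
  have h1 : ∀ ψ : IrrCharacter G, (m ψ : ℂ) * QQ R θ (ψ : G → ℂ) =
      (((m ψ : ℝ) * ((((Nat.card X : ℝ) * r ψ / (charDegree (ψ : G → ℂ) : ℝ) - θ) ^ 2) *
        (charDegree (ψ : G → ℂ) : ℝ)) : ℝ) : ℂ) := by
    intro ψ
    rw [QQ_irr, hr, hdeg]
    push_cast
    ring
  rw [Finset.sum_congr rfl fun ψ _ => h1 ψ, ← Complex.ofReal_sum] at h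
  have h2 : ∑ ψ : IrrCharacter G, (m ψ : ℝ) * ((((Nat.card X : ℝ) * r ψ / (charDegree (ψ : G → ℂ) : ℝ) - θ) ^ 2) *
        (charDegree (ψ : G → ℂ) : ℝ)) = 0 := by exact_mod_cast h
  have h3 := (Finset.sum_eq_zero_iff_of_nonneg (fun ψ _ => by positivity)).1 h2 ψ (Finset.mem_univ _)
  have hdp : (charDegree (ψ : G → ℂ) : ℝ) ≠ 0 := by exact_mod_cast (hd0 ψ).ne'
  have h4 : (Nat.card X : ℝ) * r ψ / (charDegree (ψ : G → ℂ) : ℝ) - θ = 0 := by
    have h5 := (mul_eq_zero.1 h3).resolve_left (by exact_mod_cast hψ)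
    have h6 := (mul_eq_zero.1 h5).resolve_right hdp
    exact pow_eq_zero_iff (two_ne_zero) |>.1 h6
  have h5 : (Nat.card X : ℝ) * r ψ = θ * (charDegree (ψ : G → ℂ) : ℝ) := by
    have h6 := sub_eq_zero.1 h4
    rw [div_eq_iff hdp] at h6
    exact h6
  rw [hr, hdeg]
  exact_mod_cast h5

end moments

section values

variable {G : Type u} {X : Type v} [Group G] [MulAction G X] (R : Rank3 G X) {Γ : Type w} [Group Γ] [MulAction Γ X]
  {k l : ℕ}

/-- **The values of the two characters.** -/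
theorem fischer_vals' [Finite Γ] (φ : Γ → G) (hφ : ∀ (γ : Γ) (x : X), γ • x = φ γ • x)
    (h : R3 Γ X (fun x y => ¬ R.Com x y) k l) (r s f g : ℕ)
    (hc : (chkV k l fun a b => (a == r) && (b == s)) = true)
    (hf : f * (r + s) + k = s * (k + l)) (hg : g * (r + s) = r * (k + l) + k) :
    ∃ χ₁ χ₂ : IrrCharacter Γ, charDegree (χ₁ : Γ → ℂ) = f ∧ charDegree (χ₂ : Γ → ℂ) = g ∧
      (∀ x, (fx Γ X x : ℂ) = 1 + (χ₁ : Γ → ℂ) x + (χ₂ : Γ → ℂ) x) ∧
      (∀ γ x, φ γ = R.t x → (χ₁ : Γ → ℂ) γ * (r + s) = s * l ∧ (χ₂ : Γ → ℂ) γ * (r + s) = r * l) ∧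
      (∀ γ a b, a ≠ b → R.Com a b → φ γ = R.t a * R.t b →
        (χ₁ : Γ → ℂ) γ * (r + s) = 2 * r * s + s * (1 + l - r * s) - (k + s) ∧
        (χ₂ : Γ → ℂ) γ * (r + s) = r * (1 + l - r * s) + k - (2 * r * s + r)) ∧
      (∀ γ a b, ¬ R.Com a b → φ γ = R.t a * R.t b →
        (χ₁ : Γ → ℂ) γ * (r + s) = (k + r * s - r + s) + s * (1 + l - r * s + r - s) - (k + s) ∧
        (χ₂ : Γ → ℂ) γ * (r + s) = r * (1 + l - r * s + r - s) + k - ((k + r * s - r + s) + r)) ∧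
      (∀ x, (χ₁ : Γ → ℂ) x * (r + s) = nR Γ (fun x y => ¬ R.Com x y) x + s * fx Γ X x - (k + s)) ∧
      (∀ x, (χ₂ : Γ → ℂ) x * (r + s) = r * fx Γ X x + k - (nR Γ (fun x y => ¬ R.Com x y) x + r)) := by
  obtain ⟨χ₁, χ₂, d1, d2, hfix, v1, v2, p1, p2⟩ := rank3_vals h r s f g hc hf hg
  have hn := h.cardn
  have hfin : Finite X := by
    by_contra hcon
    rw [not_finite_iff_infinite] at hcon
    rw [Nat.card_eq_zero_of_infinite] at hn
    omega
  have hfx : ∀ γ : Γ, fx Γ X γ = fx G X (φ γ) := fun γ =>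
    Nat.card_congr (Equiv.subtypeEquivRight fun y => by
      show γ • y = y ↔ φ γ • y = y
      rw [hφ])
  have hnR : ∀ γ : Γ, nR Γ (fun x y => ¬ R.Com x y) γ = nR G (fun x y => ¬ R.Com x y) (φ γ) := fun γ =>
    Nat.card_congr (Equiv.subtypeEquivRight fun y => by
      show ¬ R.Com y (γ • y) ↔ ¬ R.Com y (φ γ • y)
      rw [hφ])
  have hC : ∀ x, Nat.card {y // R.Com x y} = 1 + l := fun x => card_com_add R x (h.cardk x) hn
  refine ⟨χ₁, χ₂, d1, d2, hfix, fun γ x hγ => ?_, fun γ a b hab hcab hγ => ?_, fun γ a b hab hγ => ?_, v1, v2⟩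
  · have e1 : fx Γ X γ = 1 + l := by rw [hfx, hγ, fx_t_eq, hC]
    have e2 : nR Γ (fun x y => ¬ R.Com x y) γ = k := by rw [hnR, hγ, nR_t_eq, h.cardk]
    rw [v1, v2, e1, e2]
    push_cast
    constructor <;> ring
  · obtain ⟨c, hc⟩ : ∃ c, c = Nat.card {z // ¬ R.Com a z ∧ ¬ R.Com z b} := ⟨_, rfl⟩
    have e0 := p2 a b hab (fun h => h hcab)
    rw [← hc] at e0
    have e1 := card_both R a b (h.cardk a) (h.cardk b) hc.symm
    have e2 := card_xor R a b (hC a) (hC b)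
    have e3 : fx Γ X γ = Nat.card {y // R.Com a y ∧ R.Com b y} := by rw [hfx, hγ, fx_prod_eq R hab]
    have e4 : nR Γ (fun x y => ¬ R.Com x y) γ =
        Nat.card {y // (R.Com a y ∧ ¬ R.Com b y) ∨ (¬ R.Com a y ∧ R.Com b y)} := by
      rw [hnR, hγ, nR_prod_com R hcab]
    rw [← e3] at e1 e2
    rw [← e4] at e2
    rw [hn] at e1
    have f1 : (fx Γ X γ : ℂ) = 1 + l - r * s := by
      have g1 : (fx Γ X γ : ℤ) = 1 + l - r * s := by
        have g2 : ((fx Γ X γ + 2 * k : ℕ) : ℤ) = ((1 + k + l + c : ℕ) : ℤ) := by rw [e1]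
        push_cast at g2
        linarith
      exact_mod_cast g1
    have f2 : (nR Γ (fun x y => ¬ R.Com x y) γ : ℂ) = 2 * r * s := by
      have g2 : ((nR Γ (fun x y => ¬ R.Com x y) γ : ℕ) : ℂ) + 2 * (fx Γ X γ : ℂ) = 2 * (1 + l) := by exact_mod_cast e2
      rw [f1] at g2
      linear_combination g2
    rw [v1, v2, f1, f2]
    constructor <;> ring
  · obtain ⟨c, hc⟩ : ∃ c, c = Nat.card {z // ¬ R.Com a z ∧ ¬ R.Com z b} := ⟨_, rfl⟩
    have hne : a ≠ b := by
      rintro rfl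
      exact hab (R.com_self a)
    have e0 := p1 a b hne hab
    rw [← hc] at e0
    have e1 := card_both R a b (h.cardk a) (h.cardk b) hc.symm
    have e2 := card_not_both R a b
    have e3 : fx Γ X γ = Nat.card {y // R.Com a y ∧ R.Com b y} := by rw [hfx, hγ, fx_prod_eq R hne]
    have e4 : nR Γ (fun x y => ¬ R.Com x y) γ = Nat.card {y // ¬ (R.Com a y ∧ R.Com b y)} := by
      rw [hnR, hγ, nR_prod_ncom R hab]
    rw [← e3] at e1 e2
    rw [← e4] at e2
    rw [hn] at e1 e2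
    have f1 : (fx Γ X γ : ℂ) = 1 + l - r * s + r - s := by
      have g1 : (fx Γ X γ : ℤ) = 1 + l - r * s + r - s := by
        have g2 : ((fx Γ X γ + 2 * k : ℕ) : ℤ) = ((1 + k + l + c : ℕ) : ℤ) := by rw [e1]
        push_cast at g2
        linarith
      exact_mod_cast g1
    have f2 : (nR Γ (fun x y => ¬ R.Com x y) γ : ℂ) = k + r * s - r + s := by
      have g2 : ((nR Γ (fun x y => ¬ R.Com x y) γ : ℕ) : ℂ) + (fx Γ X γ : ℂ) = 1 + k + l := by exact_mod_cast e2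
      rw [f1] at g2
      linear_combination g2
    rw [v1, v2, f1, f2]
    constructor <;> ring


end values

end Cfsg.Agent.H301.PQ.KreinK
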