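import Cfsg.Agent.H968.Imc.RankThreeRat
import Cfsg.Agent.H329.PQ.MF

/-!
# S4612: the values of the two characters of a rank 3 action (helper301)

`rank3_vals` : for `R3 G X R k l` with eigenvalues `r`, `-s` of `R` (by a check `chkV`) the permutation character is
`1 + χ₁ + χ₂` with `(r + s) χ₁(g) = N(g) + s fix(g) - k - s` and `(r + s) χ₂(g) = r fix(g) + k - r - N(g)`, where
`N(g)` is the number of the points `x` with `R x (g x)`.
-/

set_option autoImplicit false
set_option linter.unusedSectionVars false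

namespace Cfsg.Agent.H301.PQ

open Cfsg Cfsg.Agent.Characters.Core Cfsg.Agent.H625.SylConst Cfsg.Agent.H690.Spor.RankThree Cfsg.Agent.H968.Imc
open Cfsg.Agent.Blocks.Basic
open Cfsg.Agent.H690.Spor.RankThree.R3
open scoped ComplexConjugate

universe u v

variable {G : Type u} {X : Type v} [Group G] [MulAction G X] {R : X → X → Prop} {k l : ℕ}

/-- the check for one pair of parameters, `d` is the integer square root of the discriminant `D` -/
def chkVOne (k l : ℕ) (Q : ℕ → ℕ → Bool) (a b D d : ℕ) : Bool :=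
  if d * d = D then
    decide ((d + a - b) / 2 + b = (d + b - a) / 2 + a) && decide ((d + a - b) / 2 * ((d + b - a) / 2) + b = k) &&
    decide (d ≠ 0) && decide ((d + a - b) / 2 + (d + b - a) / 2 = d) &&
    decide (k ≤ (d + b - a) / 2 * (k + l)) &&
    (decide (((d + b - a) / 2 * (k + l) - k) % d ≠ 0) ||
      decide (((d + a - b) / 2 * (k + l) + k) % d ≠ 0) ||
      Q ((d + a - b) / 2) ((d + b - a) / 2))
  else decide (d * d < D) && decide (D < (d + 1) * (d + 1)) && decide (a * (k + l) + 2 * k ≠ b * (k + l))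

/-- the check -/
def chkV (k l : ℕ) (Q : ℕ → ℕ → Bool) : Bool :=
  decide (0 < k / Nat.gcd k l) &&
  (List.range (min k (k * k / l) / (k / Nat.gcd k l) + 1)).all fun t =>
    decide ((k * k - k - l * (t * (k / Nat.gcd k l))) % k ≠ 0) ||
    decide (k * k < k + l * (t * (k / Nat.gcd k l))) ||
    chkVOne k l Q ((k * k - k - l * (t * (k / Nat.gcd k l))) / k) (t * (k / Nat.gcd k l))
      (((k * k - k - l * (t * (k / Nat.gcd k l))) / k - t * (k / Nat.gcd k l) +
        (t * (k / Nat.gcd k l) - (k * k - k - l * (t * (k / Nat.gcd k l))) / k)) ^ 2 + 4 * (k - t * (k / Nat.gcd k l)))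
      (isq 24 (((k * k - k - l * (t * (k / Nat.gcd k l))) / k - t * (k / Nat.gcd k l) +
        (t * (k / Nat.gcd k l) - (k * k - k - l * (t * (k / Nat.gcd k l))) / k)) ^ 2 +
          4 * (k - t * (k / Nat.gcd k l))) 0)

section fixed

variable [Fintype X] [DecidableEq X] [DecidableRel R]

theorem exists_vals' [Finite G] (h : R3 G X R k l) (Q : ℕ → ℕ → Bool) (hc : chkV k l Q = true) :
    ∃ (r s : ℕ) (χ₁ χ₂ : IrrCharacter G), Q r s = true ∧ r + s ≠ 0 ∧
      (∀ g, (χ₁ : G → ℂ) g = ∑ x : X, ker R k (Nat.card X) ((r : ℤ) : ℂ) ((-(s : ℤ) : ℤ) : ℂ) x (g • x)) ∧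
      (∀ g, (χ₂ : G → ℂ) g = ∑ x : X, ker R k (Nat.card X) ((-(s : ℤ) : ℤ) : ℂ) ((r : ℤ) : ℂ) x (g • x)) ∧
      (∀ x y, ∑ z, adj R x z * adj R z y = (r * s : ℂ) * dia x y + (r - s : ℂ) * adj R x y + (k - r * s)) := by
  obtain ⟨a, b, hab⟩ := h.exists_params
  have hpar := h.params_eq hab
  have hb := b_le h hab
  have hk0 := h.k0
  have hl0 := h.l0
  unfold chkV at hc
  rw [Bool.and_eq_true, decide_eq_true_eq, List.all_eq_true] at hc
  obtain ⟨hst, hc⟩ := hc
  obtain ⟨st, hst'⟩ : ∃ st, st = k / Nat.gcd k l := ⟨_, rfl⟩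
  rw [← hst'] at hc hst
  have hdiv : st ∣ b := by
    have h1 : k ∣ l * b := by
      have h2 : k ∣ k * k := dvd_mul_right k k
      rw [hpar] at h2
      exact (Nat.dvd_add_right ((dvd_refl k).add (dvd_mul_right k a))).1 h2
    obtain ⟨g, hg⟩ : ∃ g, g = Nat.gcd k l := ⟨_, rfl⟩
    have hg0 : 0 < g := by rw [hg]; exact Nat.gcd_pos_of_pos_left l hk0
    have hcop : Nat.Coprime (k / g) (l / g) := by rw [hg]; exact Nat.coprime_div_gcd_div_gcd (by rw [← hg]; exact hg0)
    rw [hst', ← hg]
    have hkg : g * (k / g) = k := Nat.mul_div_cancel' (by rw [hg]; exact Nat.gcd_dvd_left k l)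
    have hlg : g * (l / g) = l := Nat.mul_div_cancel' (by rw [hg]; exact Nat.gcd_dvd_right k l)
    refine hcop.dvd_of_dvd_mul_left (Nat.dvd_of_mul_dvd_mul_left hg0 ?_)
    rw [hkg, ← mul_assoc, hlg]
    exact h1
  obtain ⟨t, ht⟩ := hdiv
  have hbl : b ≤ k * k / l := by
    rw [Nat.le_div_iff_mul_le hl0, mul_comm]
    omega
  have hmem : t ∈ List.range (min k (k * k / l) / st + 1) := by
    rw [List.mem_range]
    have h1 : b ≤ min k (k * k / l) := le_min hb hbl
    have h2 : t ≤ min k (k * k / l) / st := by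
      rw [Nat.le_div_iff_mul_le hst, mul_comm, ← ht]
      exact h1
    omega
  have h1 := hc t hmem
  have htb : t * st = b := by rw [mul_comm, ht]
  rw [htb] at h1
  have hw : k * k - k - l * b = k * a := by omega
  rw [hw, Nat.mul_mod_right, Nat.mul_div_cancel_left a hk0] at h1
  rw [Bool.or_eq_true, Bool.or_eq_true, decide_eq_true_eq, decide_eq_true_eq] at h1
  replace h1 := h1.resolve_left (by omega)
  obtain ⟨D, hD⟩ : ∃ D, D = (a - b + (b - a)) ^ 2 + 4 * (k - b) := ⟨_, rfl⟩
  rw [← hD] at h1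
  have hDZ : (D : ℤ) = ((a : ℤ) - b) ^ 2 + 4 * (k - b) := by
    rw [hD]
    push_cast [Nat.cast_sub hb]
    rcases le_total a b with h2 | h2
    · rw [Nat.sub_eq_zero_of_le h2, Nat.cast_sub h2]
      push_cast
      ring
    · rw [Nat.sub_eq_zero_of_le h2, Nat.cast_sub h2]
      push_cast
      ring
  generalize isq 24 D 0 = d at h1
  unfold chkVOne at h1
  have hsum : ((a : ℤ) - b) * (k + l) + 2 * k ≠ 0 → d * d = D := by
    intro h2
    by_contra h3
    rw [if_neg h3, Bool.and_eq_true, Bool.and_eq_true, decide_eq_true_eq, decide_eq_true_eq, decide_eq_true_eq] at h1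
    obtain ⟨⟨h4, h5⟩, -⟩ := h1
    obtain ⟨c, hc⟩ := sq_of_params h hab h2
    rw [← hDZ] at hc
    have hc' : c * c = D := by exact_mod_cast hc
    have h6 : d < c := by
      by_contra h7
      push Not at h7
      have := Nat.mul_le_mul h7 h7
      omega
    have h7 : c < d + 1 := by
      by_contra h7
      push Not at h7
      have := Nat.mul_le_mul h7 h7
      omega
    omega
  by_cases hdD : d * d = D
  swap
  · exfalso
    rw [if_neg hdD, Bool.and_eq_true, Bool.and_eq_true, decide_eq_true_eq, decide_eq_true_eq, decide_eq_true_eq] at h1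
    obtain ⟨-, h4⟩ := h1
    apply hdD (hsum ?_)
    intro h5
    apply h4
    zify
    linear_combination h5
  rw [if_pos hdD] at h1
  obtain ⟨r, hr⟩ : ∃ r, r = (d + a - b) / 2 := ⟨_, rfl⟩
  obtain ⟨s, hs⟩ : ∃ s, s = (d + b - a) / 2 := ⟨_, rfl⟩
  rw [← hr, ← hs] at h1
  simp only [Bool.and_eq_true, Bool.or_eq_true, decide_eq_true_eq] at h1
  obtain ⟨⟨⟨⟨⟨h2, h3⟩, h4⟩, h5⟩, h7⟩, h8⟩ := h1
  have hrs : (r : ℤ) ≠ -(s : ℤ) := by omega
  have e1 : (r : ℤ) + -(s : ℤ) = a - b := by omega
  have e2 : (r : ℤ) * -(s : ℤ) = b - k := by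
    have : (r : ℤ) * s + b = k := by exact_mod_cast h3
    linear_combination -this
  obtain ⟨χ₁, f, v1, z1, d1, hf⟩ := exists_irr_int h hab hrs e1 e2
  obtain ⟨χ₂, g, v2, z2, d2, hg⟩ := exists_irr_int h hab hrs.symm (by rw [add_comm]; exact e1)
    (by rw [mul_comm]; exact e2)
  have hfN : s * (k + l) - k = d * f := by
    have h9 : ((s * (k + l) : ℕ) : ℤ) = k + f * d := by
      rw [← h5]
      push_cast
      linear_combination -hf
    have h10 : s * (k + l) = k + f * d := by exact_mod_cast h9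
    rw [h10, Nat.add_sub_cancel_left, mul_comm]
  have hgN : r * (k + l) + k = d * g := by
    have h9 : ((r * (k + l) + k : ℕ) : ℤ) = d * g := by
      rw [← h5]
      push_cast
      linear_combination hg
    exact_mod_cast h9
  rw [hfN, hgN] at h8
  rw [Nat.mul_mod_right, Nat.mul_mod_right] at h8
  rcases h8 with (h8 | h8) | h8
  · exact absurd rfl h8
  · exact absurd rfl h8
  · refine ⟨r, s, χ₁, χ₂, h8, by omega, v1, v2, fun x y => ?_⟩
    have e1' : (r : ℂ) - s = a - b := by
      have e3 : (r : ℤ) - s = a - b := by linarith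
      exact_mod_cast e3
    have e2' : (b : ℂ) = k - r * s := by
      have e3 : (r : ℤ) * s = k - b := by linarith
      have e4 : (r : ℂ) * s = k - b := by exact_mod_cast e3
      rw [e4]
      ring
    rw [hab, ← e1', e2']
    ring

end fixed

/-- the number of the points `x` with `R x (g x)` -/
noncomputable def nR (G : Type u) {X : Type v} [Group G] [MulAction G X] (R : X → X → Prop) (g : G) : ℕ :=
  Nat.card {x : X // R x (g • x)}

/-- the permutation character -/
noncomputable def fx (G : Type u) (X : Type v) [Group G] [MulAction G X] (g : G) : ℕ :=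
  Nat.card (MulAction.fixedBy X g)

/-- **The values of the two characters of a rank 3 action.** -/
theorem rank3_vals [Finite G] (h : R3 G X R k l) (r s f g : ℕ)
    (hc : (chkV k l fun a b => (a == r) && (b == s)) = true)
    (hf : f * (r + s) + k = s * (k + l)) (hg : g * (r + s) = r * (k + l) + k) :
    ∃ χ₁ χ₂ : IrrCharacter G, charDegree (χ₁ : G → ℂ) = f ∧ charDegree (χ₂ : G → ℂ) = g ∧
      (∀ x, (fx G X x : ℂ) = 1 + (χ₁ : G → ℂ) x + (χ₂ : G → ℂ) x) ∧
      (∀ x, (χ₁ : G → ℂ) x * (r + s) = nR G R x + s * fx G X x - (k + s)) ∧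
      (∀ x, (χ₂ : G → ℂ) x * (r + s) = r * fx G X x + k - (nR G R x + r)) ∧
      (∀ x y, x ≠ y → R x y → (Nat.card {z // R x z ∧ R z y} : ℤ) + r * s + s = k + r) ∧
      (∀ x y, x ≠ y → ¬ R x y → (Nat.card {z // R x z ∧ R z y} : ℤ) + r * s = k) := by
  classical
  have hn := h.cardn
  have hfin : Finite X := by
    by_contra hcon
    rw [not_finite_iff_infinite] at hcon
    rw [Nat.card_eq_zero_of_infinite] at hn
    omega
  have := Fintype.ofFinite X
  obtain ⟨r', s', χ₁, χ₂, h1, h2, h3, h4, hpar⟩ := exists_vals' h _ hc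
  rw [Bool.and_eq_true, beq_iff_eq, beq_iff_eq] at h1
  obtain ⟨rfl, rfl⟩ := h1
  have hN : ∀ x : G, ∑ y : X, adj R y (x • y) = (nR G R x : ℂ) := by
    intro x
    unfold adj nR
    rw [Finset.sum_boole, Nat.card_eq_fintype_card, Fintype.card_subtype]
  have hrsC : ((r' + s' : ℕ) : ℂ) ≠ 0 := by exact_mod_cast h2
  push_cast at hrsC
  have hrs : (r' : ℤ) ≠ -(s' : ℤ) := by omega
  have e1 : ∀ x, (χ₁ : G → ℂ) x * (r' + s') = nR G R x + s' * fx G X x - (k + s') := by
    intro x
    rw [h3, ker_val h, hN]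
    unfold fx
    push_cast
    have h5 : ((r' : ℂ) - -(s' : ℂ)) = r' + s' := by ring
    rw [h5]
    field_simp
    ring
  have e2 : ∀ x, (χ₂ : G → ℂ) x * (r' + s') = r' * fx G X x + k - (nR G R x + r') := by
    intro x
    rw [h4, ker_val h, hN]
    unfold fx
    push_cast
    have h5 : (-(s' : ℂ) - (r' : ℂ)) = -(r' + s') := by ring
    rw [h5, inv_neg]
    field_simp
    ring
  have hN1 : nR G R 1 = 0 := by
    unfold nR
    rw [Nat.card_eq_zero]
    exact Or.inl ⟨fun x => h.irr x.1 (by simpa using x.2)⟩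
  have hf1 : fx G X 1 = 1 + k + l := by
    unfold fx
    rw [MulAction.fixedBy_one_eq_univ, Nat.card_univ, hn]
  have hcom : ∀ x y, ∑ z, adj R x z * adj R z y = (Nat.card {z // R x z ∧ R z y} : ℂ) := by
    intro x y
    have h5 : ∀ z, adj R x z * adj R z y = if R x z ∧ R z y then (1 : ℂ) else 0 := by
      intro z
      unfold adj
      by_cases h6 : R x z <;> by_cases h7 : R z y <;> simp [h6, h7]
    rw [Finset.sum_congr rfl fun z _ => h5 z, Finset.sum_boole, Nat.card_eq_fintype_card, Fintype.card_subtype]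
  refine ⟨χ₁, χ₂, ?_, ?_, fun x => ?_, e1, e2, fun x y hxy hR => ?_, fun x y hxy hR => ?_⟩
  · have h5 := e1 1
    rw [irr_one_eq_charDegree χ₁.2, hN1, hf1] at h5
    have h6 : (f : ℂ) * (r' + s') + k = s' * (k + l) := by exact_mod_cast hf
    have h7 : (charDegree (χ₁ : G → ℂ) : ℂ) = f := by
      refine mul_right_cancel₀ hrsC ?_
      rw [h5]
      push_cast
      linear_combination -h6
    exact_mod_cast h7
  · have h5 := e2 1
    rw [irr_one_eq_charDegree χ₂.2, hN1, hf1] at h5
    have h6 : (g : ℂ) * (r' + s') = r' * (k + l) + k := by exact_mod_cast hg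
    have h7 : (charDegree (χ₂ : G → ℂ) : ℂ) = g := by
      refine mul_right_cancel₀ hrsC ?_
      rw [h5]
      push_cast
      linear_combination -h6
    exact_mod_cast h7
  · refine mul_right_cancel₀ hrsC ?_
    linear_combination -(e1 x) - (e2 x)
  · have h5 := hpar x y
    rw [hcom] at h5
    unfold dia adj at h5
    rw [if_neg hxy, if_pos hR] at h5
    have h6 : ((Nat.card {z // R x z ∧ R z y} : ℂ)) + r' * s' + s' = k + r' := by rw [h5]; ring
    exact_mod_cast h6
  · have h5 := hpar x y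
    rw [hcom] at h5
    unfold dia adj at h5
    rw [if_neg hxy, if_neg hR] at h5
    have h6 : ((Nat.card {z // R x z ∧ R z y} : ℂ)) + r' * s' = k := by rw [h5]; ring
    exact_mod_cast h6

/-- the trivial character -/
def one (G : Type u) [Group G] : IrrCharacter G := ⟨_, isIrrCharacter_one⟩

/-- The permutation character is multiplicity free. -/
theorem mf_of_rank3 [Finite G] {χ₁ χ₂ : IrrCharacter G} (h1 : charDegree (χ₁ : G → ℂ) ≠ 1)
    (h2 : charDegree (χ₂ : G → ℂ) ≠ 1) (h3 : charDegree (χ₁ : G → ℂ) ≠ charDegree (χ₂ : G → ℂ))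
    (h : ∀ x, (fx G X x : ℂ) = 1 + (χ₁ : G → ℂ) x + (χ₂ : G → ℂ) x) :
    Cfsg.Agent.H329.PQ.MF G X ![one G, χ₁, χ₂] := by
  have h0 : charDegree ((one G : IrrCharacter G) : G → ℂ) = 1 :=
    Cfsg.Agent.Blocks.Basic.charDegree_of_eq (by simp [one])
  constructor
  · intro i j hij
    fin_cases i <;> fin_cases j <;> first
      | rfl
      | (exfalso
         have h4 := congrArg (fun χ : IrrCharacter G => charDegree (χ : G → ℂ)) hij
         simp [h0] at h4
         first
          | exact h1 h4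
          | exact h2 h4
          | exact h3 h4
          | exact h1 h4.symm
          | exact h2 h4.symm
          | exact h3 h4.symm)
  · intro g
    have h4 := h g
    unfold fx at h4
    rw [h4, Fin.sum_univ_three]
    simp [one]

end Cfsg.Agent.H301.PQ
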